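import Cfsg.Agent.HSRecog.MSide.Gens

/-!
The action on the subgroup of order eight and the first choice of the involution `r`.
-/

set_option autoImplicit false
set_option maxRecDepth 100000
set_option linter.all false

namespace Cfsg.Agent.HSRecog.MSide

open Subgroup Cfsg.Agent.HSRecog Cfsg.Agent.HSRecog.Machine
open Cfsg.Agent.HSRecog.MRel (nfW)

/-- Coordinates of the subgroup of order eight. -/
abbrev U : Type := Fin 2 × Fin 2 × Fin 2

/-- An involution of `4^3`. -/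
def dbl (a : U) : V4 :=
  (⟨2 * a.1.val, by omega⟩, ⟨2 * a.2.1.val, by omega⟩, ⟨2 * a.2.2.val, by omega⟩)

/-- The coordinates of an involution. -/
def hlf (v : V4) : U :=
  (⟨v.1.val / 2, by omega⟩, ⟨v.2.1.val / 2, by omega⟩, ⟨v.2.2.val / 2, by omega⟩)

/-- Three images. -/
abbrev T3 : Type := U × U × U

/-- A combination. -/
def comb (s : T3) (a : U) : U := (a.1 : ℕ) • s.1 + (a.2.1 : ℕ) • s.2.1 + (a.2.2 : ℕ) • s.2.2

/-- A basis. -/
def Indep (s : T3) : Prop := ∀ a, comb s a = 0 → a = 0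

instance (s : T3) : Decidable (Indep s) := inferInstanceAs (Decidable (∀ a, comb s a = 0 → a = 0))

/-- The images of the basis under a map. -/
def img (φ : V4 → V4) : T3 := (hlf (φ (2, 0, 0)), hlf (φ (0, 2, 0)), hlf (φ (0, 0, 2)))

/-- The map of the element exchanging two basis vectors. -/
def s0 : T3 := ((1, 0, 0), (0, 0, 1), (0, 1, 0))

theorem dbl_add : ∀ a b : U, dbl (a + b) = dbl a + dbl b := by decide +kernel

theorem dbl_inj : Function.Injective dbl := by decide +kernel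

theorem dbl_surj : ∀ v : V4, v + v = 0 → dbl (hlf v) = v := by decide +kernel

theorem dbl_two : ∀ a : U, dbl a + dbl a = 0 := by decide +kernel

theorem comb_std : ∀ a : U, comb ((1, 0, 0), (0, 1, 0), (0, 0, 1)) a = a := by decide +kernel

theorem card_indep : Fintype.card {s : T3 // Indep s ∧ s ≠ s0} = 167 := by decide +kernel

variable {G : Type*} [Group G] [Finite G] {t c d f : G} {H R M W V : Subgroup G}

/-- The involution with given coordinates. -/
def nu (c d : G) (a : U) : G := nfW c d (dbl a)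

/-- The action on the subgroup of order eight. -/
def Acts (c d x : G) (s : T3) : Prop := ∀ a, x * nu c d a * x⁻¹ = nu c d (comb s a)

namespace Gens

variable (g : Gens t H R M W V c d f)
include g

theorem nu_mem (a : U) : nu c d a ∈ V :=
  (g.V_iff _).2 ⟨g.nf_mem _, by rw [nu, g.wd.nf_mul, dbl_two, g.wd.nf_zero]⟩

theorem nu_surj {v : G} (hv : v ∈ V) : ∃ a, nu c d a = v := by
  obtain ⟨hw, h2⟩ := (g.V_iff v).1 hv
  obtain ⟨u, rfl⟩ := g.nf_surj v hw
  exact ⟨hlf u, by rw [nu, dbl_surj u (g.nf_inj (by rw [← g.wd.nf_mul, h2, g.wd.nf_zero]))]⟩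

theorem nu_inj : Function.Injective (nu c d) := fun a b e => dbl_inj (g.nf_inj e)

theorem nu_add (a b : U) : nu c d (a + b) = nu c d a * nu c d b := by
  rw [nu, nu, nu, g.wd.nf_mul, dbl_add]

theorem nu_zero : nu c d 0 = 1 := by
  rw [nu, show dbl 0 = (0 : V4) by decide, g.wd.nf_zero]

theorem nu_nsmul (n : ℕ) (a : U) : nu c d (n • a) = nu c d a ^ n := by
  induction n with
  | zero => rw [zero_smul, g.nu_zero, pow_zero]
  | succ n ih => rw [succ_nsmul, g.nu_add, ih, pow_succ]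

theorem nu_comb (s : T3) (a : U) : nu c d (comb s a) =
    nu c d s.1 ^ (a.1 : ℕ) * nu c d s.2.1 ^ (a.2.1 : ℕ) * nu c d s.2.2 ^ (a.2.2 : ℕ) := by
  rw [comb, g.nu_add, g.nu_add, g.nu_nsmul, g.nu_nsmul, g.nu_nsmul]

theorem nu_t : nu c d (1, 0, 0) = t := by
  rw [nu, show dbl (1, 0, 0) = (2, 0, 0) by decide, ← g.cc]; simp [nfW, pow_two]

theorem conjV {x : G} (hx : x ∈ M) {v : G} (hv : v ∈ V) : x * v * x⁻¹ ∈ V :=
  (mem_normalizer_iff.1 (g.hM ▸ hx : x ∈ normalizer (V : Set G)) v).1 hv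

theorem acts_exists {x : G} (hx : x ∈ M) : ∃ s, Indep s ∧ Acts c d x s := by
  obtain ⟨p, hp⟩ := g.nu_surj (g.conjV hx (g.nu_mem (1, 0, 0)))
  obtain ⟨q, hq⟩ := g.nu_surj (g.conjV hx (g.nu_mem (0, 1, 0)))
  obtain ⟨u, hu⟩ := g.nu_surj (g.conjV hx (g.nu_mem (0, 0, 1)))
  have key : Acts c d x (p, q, u) := fun a => by
    rw [g.nu_comb, hp, hq, hu, conj_pow, conj_pow, conj_pow]
    conv_lhs => rw [← comb_std a, g.nu_comb]
    group
  refine ⟨(p, q, u), fun a ha => g.nu_inj ?_, key⟩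
  have := key a
  rw [ha, g.nu_zero, conj_eq_one_iff] at this
  rw [this, g.nu_zero]

theorem acts_same {x y : G} {s : T3} (hx : x ∈ M) (hy : y ∈ M) (hxs : Acts c d x s) (hys : Acts c d y s) :
    y⁻¹ * x ∈ W := by
  refine (g.fix_iff _ (mul_mem (inv_mem hy) hx)).1 fun v hv => ?_
  obtain ⟨a, rfl⟩ := g.nu_surj hv
  calc y⁻¹ * x * nu c d a * (y⁻¹ * x)⁻¹ = y⁻¹ * (x * nu c d a * x⁻¹) * y := by group
    _ = y⁻¹ * (y * nu c d a * y⁻¹) * y := by rw [hxs a, ← hys a]
    _ = _ := by group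

theorem exists_swap : ∃ x ∈ M, Acts c d x s0 := by
  classical
  by_contra hno
  have hex : ∀ x : M, ∃ s : {s : T3 // Indep s ∧ s ≠ s0}, Acts c d (x : G) s.1 := fun x => by
    obtain ⟨s, h1, h2⟩ := g.acts_exists x.2
    exact ⟨⟨s, h1, fun e => hno ⟨x, x.2, e ▸ h2⟩⟩, h2⟩
  choose σ hσ using hex
  let rep : {s : T3 // Indep s ∧ s ≠ s0} → M := fun s =>
    if h : ∃ y : M, Acts c d (y : G) s.1 then h.choose else 1
  have hrep : ∀ x : M, Acts c d (rep (σ x) : G) (σ x).1 := fun x => by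
    have h : ∃ y : M, Acts c d (y : G) (σ x).1 := ⟨x, hσ x⟩
    simp only [rep, dif_pos h]
    exact h.choose_spec
  let F : M → {s : T3 // Indep s ∧ s ≠ s0} × W := fun x =>
    (σ x, ⟨(rep (σ x) : G)⁻¹ * x, g.acts_same x.2 (rep (σ x)).2 (hσ x) (hrep x)⟩)
  have hF : Function.Injective F := by
    intro x y e
    have e1 : σ x = σ y := congrArg Prod.fst e
    have e2 := congrArg (fun z : {s : T3 // Indep s ∧ s ≠ s0} × W => (z.2 : G)) e
    simp only [F, e1] at e2
    exact Subtype.ext (mul_left_cancel e2)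
  have := Nat.card_le_card_of_injective F hF
  rw [g.card_M, Nat.card_prod, g.card_W, Nat.card_eq_fintype_card, card_indep] at this
  omega

theorem conj_f (v : V4) : f * nfW c d v * f⁻¹ = nfW c d (fV v) := by
  have e : f * e1 c d * f⁻¹ = e2 c d := by
    calc f * e1 c d * f⁻¹ = (f * d * f⁻¹) * (f * c * f⁻¹) * (f * d * f⁻¹)⁻¹ := by
          simp only [e1]; group
      _ = e2 c d := by rw [g.fd, g.fc]; simp only [e2]; group
  have e' : f * e2 c d * f⁻¹ = nfW c d (fV (0, 0, 1)) := by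
    rw [show fV (0, 0, 1) = dP 4 (1, 0, 0) by decide +kernel, ← g.wd.conj_dpow]
    calc f * e2 c d * f⁻¹ =
          (f * d * f⁻¹) * (f * d * f⁻¹) * (f * c * f⁻¹) * ((f * d * f⁻¹) * (f * d * f⁻¹))⁻¹ := by
          simp only [e2]; group
      _ = _ := by
          rw [g.fd, g.fc]
          simp [nfW, pow_succ, mul_assoc]
  exact g.wd.conj_of (by decide +kernel) (by simp [nfW, fV, g.fc])
    (by rw [e, show fV (0, 1, 0) = (0, 0, 1) by decide +kernel]; simp [nfW]) e' v

theorem conj_finv (v : V4) : f⁻¹ * nfW c d v * f = nfW c d (fP 2 v) := by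
  have key : ∀ v : V4, fV (fP 2 v) = v := by decide +kernel
  conv_lhs => rw [← key v, ← g.conj_f]
  group

theorem conj_c {x : G} (hx : x ∈ H) :
    x * c * x⁻¹ = nfW c d (1, 0, 0) ∨ x * c * x⁻¹ = nfW c d (3, 0, 0) := by
  have hR := g.R_norm hx
  have hz : x * c * x⁻¹ ∈ zpowers c := by
    refine g.Z_R _ ((mem_normalizer_iff.1 hR c).1 g.cR) fun y hy => ?_
    have hy' : x⁻¹ * y * x ∈ R := (mem_normalizer_iff.1 hR _).2 (by
      rwa [show x * (x⁻¹ * y * x) * x⁻¹ = y by group])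
    calc y * (x * c * x⁻¹) = x * ((x⁻¹ * y * x) * c) * x⁻¹ := by group
      _ = _ := by rw [g.c_cen _ hy']; group
  obtain ⟨n, hn⟩ := (isOfFinOrder_of_finite c).mem_powers_iff_mem_zpowers.2 hz
  have hn' : c ^ n = x * c * x⁻¹ := hn
  rw [← hn']
  have hc : nfW c d (1, 0, 0) = c := by simp [nfW]
  have e : c ^ n = nfW c d (n • (1, 0, 0)) := by rw [g.wd.nf_nsmul, hc]
  have h2 : nfW c d (n • (1, 0, 0) + n • (1, 0, 0)) = nfW c d (2, 0, 0) := by
    have ht : t * x = x * t := by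
      have := mem_centralizer_iff.1 (g.hH ▸ hx : x ∈ centralizer ({t} : Set G)) t rfl
      exact this
    rw [← g.wd.nf_mul, ← e, hn', show x * c * x⁻¹ * (x * c * x⁻¹) = x * (c * c) * x⁻¹ by group, g.cc, ← ht,
      mul_inv_cancel_right, ← g.cc]
    simp [nfW, pow_two]
  have key : ∀ u : V4, u.2 = (0, 0) → u + u = (2, 0, 0) → u = (1, 0, 0) ∨ u = (3, 0, 0) := by decide +kernel
  rcases key (n • (1, 0, 0)) (by simp) (g.nf_inj h2) with k | k <;> rw [e, k]
  · exact Or.inl rfl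
  · exact Or.inr rfl

end Gens

end Cfsg.Agent.HSRecog.MSide
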