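import Mathlib
import Cfsg.Agent.Classical.LinearBasic

/-!
The general linear group of degree three over the field of two elements is simple of order 168.
-/

set_option autoImplicit false

namespace Cfsg.Agent.HSRecog

open Matrix

local instance : Fact (Nat.Prime 2) := ⟨Nat.prime_two⟩

theorem card_GL32 : Nat.card (GL (Fin 3) (ZMod 2)) = 168 := by
  rw [Matrix.card_GL_field]
  simp [Fin.prod_univ_three]

theorem simple_GL32 : IsSimpleGroup (GL (Fin 3) (ZMod 2)) := by
  have hs : IsSimpleGroup (ProjectiveSpecialLinearGroup (Fin 3) (ZMod 2)) :=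
    Cfsg.Agent.Classical.isSimpleGroup_psl (Or.inl (by simp))
  have hz : Subgroup.center (SpecialLinearGroup (Fin 3) (ZMod 2)) = ⊥ := by
    rw [eq_bot_iff]
    intro x hx
    obtain ⟨r, hr, hrx⟩ := Matrix.SpecialLinearGroup.mem_center_iff.1 hx
    have h1 : ∀ a : ZMod 2, a ^ 3 = 1 → a = 1 := by decide
    have hr1 : r = 1 := h1 r (by simpa using hr)
    apply Subtype.ext
    rw [← hrx, hr1]
    simp
  let e1 : SpecialLinearGroup (Fin 3) (ZMod 2) ≃* ProjectiveSpecialLinearGroup (Fin 3) (ZMod 2) :=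
    ((QuotientGroup.quotientMulEquivOfEq hz).trans QuotientGroup.quotientBot).symm
  have hu : ∀ A : GL (Fin 3) (ZMod 2), (A : Matrix (Fin 3) (Fin 3) (ZMod 2)).det = 1 := fun A => by
    have h : ∀ a : ZMod 2, a ≠ 0 → a = 1 := by decide
    exact h _ ((GeneralLinearGroup.det A).ne_zero)
  let e2 : GL (Fin 3) (ZMod 2) ≃* SpecialLinearGroup (Fin 3) (ZMod 2) :=
    { toFun := fun A => ⟨A, hu A⟩
      invFun := fun A => SpecialLinearGroup.toGL A
      left_inv := fun A => Units.ext rfl
      right_inv := fun A => Subtype.ext rfl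
      map_mul' := fun A B => Subtype.ext rfl }
  exact MulEquiv.isSimpleGroup (e2.trans e1)

end Cfsg.Agent.HSRecog
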