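import Cfsg.Agent.HSRecog.MSide.Struct
import Cfsg.Agent.HSRecog.Machine

/-!
The elements of orders seven and three, and coordinates in the normal subgroup of order 64.
-/

set_option autoImplicit false
set_option maxRecDepth 100000
set_option linter.all false

namespace Cfsg.Agent.HSRecog.MSide

open Subgroup Cfsg.Agent.HSRecog Cfsg.Agent.HSRecog.Machine
open Cfsg.Agent.HSRecog.MRel (nfW)

variable {G : Type*} [Group G] [Finite G] {t c : G} {H R M W V : Subgroup G}

/-- The data of this step. -/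
structure Gens (t : G) (H R M W V : Subgroup G) (c d f : G) : Prop extends Ground t H R M W V c where
  wd : Wd c d
  f3 : f ^ 3 = 1
  fd : f * d * f⁻¹ = d * d
  fc : f * c * f⁻¹ = c
  dM : d ∈ M
  fM : f ∈ M
  fH : f ∈ H
  d_ne : d ≠ 1
  f_ne : f ≠ 1
  nf_mem : ∀ u, nfW c d u ∈ W
  nf_surj : ∀ w ∈ W, ∃ u, nfW c d u = w
  nf_inj : Function.Injective (nfW c d)

/-- The numbers of Sylow subgroups that can occur. -/
theorem sylow_seven_count : ∀ n ∈ Nat.divisors 1536, n % 7 = 1 → ¬ 3 ∣ n := by decide +kernel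

/-- The lifts of the cubic. -/
theorem cubic_lift : ∀ u : V4, ((u.1 : ℕ) % 2 = 1 ∧ (u.2.1 : ℕ) % 2 = 1 ∧ (u.2.2 : ℕ) % 2 = 0) →
    (fun v : V4 => (v.2.2 * u.1, v.1 + v.2.2 * u.2.1, v.2.1 + v.2.2 * u.2.2))^[7] (1, 0, 0) = (1, 0, 0) →
      u = (1, 3, 2) := by
  decide +kernel

theorem Ground.d_orbit (g : Ground t H R M W V c) {d : G} (hd : d ∈ M) (d7 : d ^ 7 = 1) (dne : d ≠ 1) :
    (∀ v ∈ V, v ≠ 1 → ∃ i : Fin 7, d ^ (i : ℕ) * t * (d ^ (i : ℕ))⁻¹ = v) ∧
    (∀ i j : ℕ, d ^ i * t * (d ^ i)⁻¹ = d ^ j * t * (d ^ j)⁻¹ → i % 7 = j % 7) ∧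
    (∀ i : ℕ, d ^ i * t * (d ^ i)⁻¹ ∈ V ∧ d ^ i * t * (d ^ i)⁻¹ ≠ 1) := by
  classical
  have hVd : ∀ i : ℕ, ∀ v ∈ V, d ^ i * v * (d ^ i)⁻¹ ∈ V := fun i v hv =>
    (mem_normalizer_iff.1 (g.hM ▸ pow_mem hd i : d ^ i ∈ normalizer (V : Set G)) v).1 hv
  have hne : ∀ i : ℕ, d ^ i * t * (d ^ i)⁻¹ ≠ 1 := fun i e => g.tne (conj_eq_one_iff.1 e)
  -- `d` fixes only the identity
  have hfix : ¬ ∀ v ∈ V, d * v * d⁻¹ = v := fun h => by
    have hW := (g.fix_iff d hd).1 h
    have h4 := g.W4 d hW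
    exact dne (by rw [← pow_one d, show (1 : ℕ) = Nat.gcd 4 7 from rfl]; exact pow_gcd_eq_one.2 ⟨h4, d7⟩)
  have hmodeq : ∀ n : ℕ, d ^ n = d ^ (n % 7) := fun n => by
    conv_lhs => rw [← Nat.div_add_mod n 7, pow_add, pow_mul, d7, one_pow, one_mul]
  -- a fixed point of `d` on the nonidentity elements would be the orbit of a smaller length
  have hcomm : ∀ v ∈ V, v ≠ 1 → d * v * d⁻¹ ≠ v := by
    intro v hv hv1 e
    apply hfix
    let φ : V → V := fun x => ⟨d * x * d⁻¹, by simpa using hVd 1 x x.2⟩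
    let p : Equiv.Perm V := Equiv.ofBijective φ (Finite.injective_iff_bijective.1 fun a b h => Subtype.ext (by
      have := congrArg Subtype.val h; simpa [φ] using this))
    have hp : ∀ (n : ℕ) (x : V), ((p ^ n) x : G) = d ^ n * x * (d ^ n)⁻¹ := by
      intro n
      induction n with
      | zero => intro x; simp
      | succ n ih =>
        intro x
        rw [pow_succ', Equiv.Perm.mul_apply]
        show d * ((p ^ n) x : G) * d⁻¹ = _
        rw [ih, pow_succ']; group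
    have p7 : p ^ 7 = 1 := Equiv.ext fun x => Subtype.ext (by rw [hp, d7]; simp)
    have : Fintype V := Fintype.ofFinite _
    by_contra hall
    have hp1 : p ≠ 1 := fun e' => hall fun x hx => by
      have h := hp 1 ⟨x, hx⟩
      rw [pow_one, e'] at h
      simpa using h.symm
    have h7 : orderOf p = 7 := orderOf_eq_prime p7 hp1 (hp := ⟨by norm_num⟩)
    have hcyc : (Equiv.Perm.cycleType p).sum ≤ 6 := by
      rw [Equiv.Perm.sum_cycleType]
      have hs : p.support ⊆ (Finset.univ.erase (1 : V)).erase ⟨v, hv⟩ := by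
        intro x hx
        rw [Equiv.Perm.mem_support] at hx
        simp only [Finset.mem_erase, Finset.mem_univ, and_true]
        constructor
        · rintro rfl; exact hx (Subtype.ext e)
        · rintro rfl; exact hx (Subtype.ext (by show d * 1 * d⁻¹ = 1; simp))
      refine le_trans (Finset.card_le_card hs) ?_
      rw [Finset.card_erase_of_mem (by simp [Subtype.ext_iff, hv1]), Finset.card_erase_of_mem (by simp),
        Finset.card_univ, ← Nat.card_eq_fintype_card, g.card_V]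
    have hl : (7 : ℕ) ∣ (Equiv.Perm.cycleType p).lcm := by rw [Equiv.Perm.lcm_cycleType, h7]
    have hsev : ∀ n ∈ Equiv.Perm.cycleType p, n = 7 := by
      intro n hn
      have h1 := Equiv.Perm.dvd_of_mem_cycleType hn
      rw [h7] at h1
      have h2 := Equiv.Perm.two_le_of_mem_cycleType hn
      exact ((Nat.dvd_prime (by norm_num)).1 h1).resolve_left (by omega)
    obtain ⟨n, hn⟩ := Multiset.exists_mem_of_ne_zero (fun e0 : Equiv.Perm.cycleType p = 0 => hp1 (by
      rwa [Equiv.Perm.cycleType_eq_zero] at e0))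
    have := Multiset.le_sum_of_mem hn
    rw [hsev n hn] at this
    omega
  have hinj : ∀ i j : ℕ, d ^ i * t * (d ^ i)⁻¹ = d ^ j * t * (d ^ j)⁻¹ → i % 7 = j % 7 := by
    intro i j e
    by_contra hij
    -- a nonzero power fixing `t` generates
    set k := (i + 6 * j) % 7 with hk
    have hk0 : k ≠ 0 := by omega
    have hkf : d ^ k * t * (d ^ k)⁻¹ = t := by
      have h7 : d ^ k = (d ^ j)⁻¹ * d ^ i := by
        rw [hk, ← hmodeq, show (d ^ j)⁻¹ = d ^ (6 * j) from inv_eq_of_mul_eq_one_right (by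
          rw [← pow_add, show j + 6 * j = 7 * j by ring, pow_mul, d7, one_pow]), ← pow_add, add_comm]
      rw [h7, mul_inv_rev, inv_inv]
      calc _ = (d ^ j)⁻¹ * (d ^ i * t * (d ^ i)⁻¹) * d ^ j := by group
        _ = t := by rw [e]; group
    have hc : Commute (d ^ k) t := mul_inv_eq_iff_eq_mul.1 hkf
    obtain ⟨m, hm⟩ : ∃ m, k * m % 7 = 1 := by
      have hlt : k < 7 := Nat.mod_lt _ (by norm_num)
      have key : ∀ a < 7, a ≠ 0 → ∃ m < 7, a * m % 7 = 1 := by decide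
      obtain ⟨m, -, hm⟩ := key k hlt hk0
      exact ⟨m, hm⟩
    refine hcomm t g.tV g.tne ?_
    have := (hc.pow_left m).eq
    rw [← pow_mul, hmodeq, hm, pow_one] at this
    rw [this, mul_inv_cancel_right]
  refine ⟨?_, hinj, fun i => ⟨hVd i t g.tV, hne i⟩⟩
  intro v hv hv1
  have : Fintype V := Fintype.ofFinite _
  let F : Fin 7 → {x : V // x ≠ 1} := fun i => ⟨⟨d ^ (i : ℕ) * t * (d ^ (i : ℕ))⁻¹, hVd i t g.tV⟩,
    fun e => hne i (congrArg Subtype.val e)⟩
  have hF : Function.Injective F := fun a b e => Fin.ext (by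
    have := hinj a b (congrArg (fun x : {x : V // x ≠ 1} => ((x : V) : G)) e)
    omega)
  have hb : Function.Bijective F := (Fintype.bijective_iff_injective_and_card F).2 ⟨hF, by
    rw [Fintype.card_fin, Fintype.card_subtype_compl, Fintype.card_subtype_eq, ← Nat.card_eq_fintype_card, g.card_V]⟩
  obtain ⟨i, hi⟩ := hb.2 ⟨⟨v, hv⟩, fun e => hv1 (congrArg Subtype.val e)⟩
  exact ⟨i, congrArg (fun x : {x : V // x ≠ 1} => ((x : V) : G)) hi⟩

/-- Elements of orders seven and three. -/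
theorem Ground.exists_df (g : Ground t H R M W V c) :
    ∃ d f : G, d ∈ M ∧ d ^ 7 = 1 ∧ d ≠ 1 ∧ f ∈ M ∧ f ∈ H ∧ f ^ 3 = 1 ∧ f ≠ 1 ∧ f * d * f⁻¹ = d * d ∧
      f * c * f⁻¹ = c ∧ d ^ 3 * t * (d ^ 3)⁻¹ = t * (d * t * d⁻¹) := by
  classical
  have : Fact (Nat.Prime 7) := ⟨by norm_num⟩
  have : Fact (Nat.Prime 3) := ⟨by norm_num⟩
  obtain ⟨P⟩ : Nonempty (Sylow 7 M) := inferInstance
  have hP : Nat.card (P : Subgroup M) = 7 := by
    rw [P.card_eq_multiplicity, g.card_M, show (10752 : ℕ) = 7 ^ 1 * 1536 by norm_num,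
      Nat.factorization_mul (by norm_num) (by norm_num), Nat.Prime.factorization_pow (by norm_num)]
    simp [show Nat.factorization 1536 7 = 0 from Nat.factorization_eq_zero_of_not_dvd (by norm_num)]
  have hn : ¬ 3 ∣ Nat.card (Sylow 7 M) := by
    refine sylow_seven_count _ (Nat.mem_divisors.2 ⟨?_, by norm_num⟩) (card_sylow_modEq_one 7 M)
    have h1 := P.card_dvd_index
    have h2 := (P : Subgroup M).card_mul_index
    rw [hP, g.card_M] at h2
    rwa [show (P : Subgroup M).index = 1536 by omega] at h1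
  have h3N : 3 ∣ Nat.card (normalizer ((P : Subgroup M) : Set M)) := by
    have h2 : Nat.card (normalizer ((P : Subgroup M) : Set M)) * Nat.card (Sylow 7 M) = 10752 := by
      rw [Sylow.card_eq_index_normalizer P, ← g.card_M]
      exact Subgroup.card_mul_index _
    exact ((Nat.Prime.dvd_mul (by norm_num)).1 (h2 ▸ (by norm_num : 3 ∣ 10752))).resolve_right hn
  obtain ⟨f₀, hf₀⟩ := exists_prime_orderOf_dvd_card' 3 h3N
  have : IsCyclic (P : Subgroup M) := isCyclic_of_prime_card hP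
  obtain ⟨d', hd'⟩ := IsCyclic.exists_generator (α := (P : Subgroup M))
  have od : orderOf d' = 7 := by rw [orderOf_eq_card_of_forall_mem_zpowers hd', hP]
  set d : G := ((d' : M) : G) with hddef
  have dM : d ∈ M := (d' : M).2
  have d7 : d ^ 7 = 1 := by
    have := congrArg (fun x : (P : Subgroup M) => ((x : M) : G)) (od ▸ pow_orderOf_eq_one d')
    simpa using this
  have dne : d ≠ 1 := fun e => by
    have : d' = 1 := Subtype.ext (Subtype.ext e)
    rw [this, orderOf_one] at od; norm_num at od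
  set fn : G := ((f₀ : M) : G) with hfdef
  have fM : fn ∈ M := (f₀ : M).2
  have f3 : fn ^ 3 = 1 := by
    have := congrArg (fun x : normalizer ((P : Subgroup M) : Set M) => ((x : M) : G)) (hf₀ ▸ pow_orderOf_eq_one f₀)
    simpa using this
  have fne : fn ≠ 1 := fun e => by
    have : f₀ = 1 := Subtype.ext (Subtype.ext e)
    rw [this, orderOf_one] at hf₀; norm_num at hf₀
  have hmodeq : ∀ n : ℕ, d ^ n = d ^ (n % 7) := fun n => by
    conv_lhs => rw [← Nat.div_add_mod n 7, pow_add, pow_mul, d7, one_pow, one_mul]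
  obtain ⟨k, hk⟩ : ∃ k : ℕ, fn * d * fn⁻¹ = d ^ k := by
    obtain ⟨k, hk⟩ := (isOfFinOrder_of_finite d').mem_powers_iff_mem_zpowers.2
      (hd' ⟨(f₀ : M) * d' * (f₀ : M)⁻¹, (mem_normalizer_iff.1 f₀.2 _).1 d'.2⟩)
    exact ⟨k, (congrArg (fun x : (P : Subgroup M) => ((x : M) : G)) hk).symm.trans (by simp [hddef])⟩
  obtain ⟨horb, hinj, hmem⟩ := g.d_orbit dM d7 dne
  have hconj : ∀ i : ℕ, fn * d ^ i = d ^ (k * i) * fn := fun i => by
    rw [pow_mul, ← hk, conj_pow]; group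
  obtain ⟨s, hs⟩ := horb _ ((mem_normalizer_iff.1 (g.hM ▸ fM : fn ∈ normalizer (V : Set G)) t).1 g.tV)
    (fun e => g.tne (conj_eq_one_iff.1 e))
  have hmove : ∀ i : ℕ, fn * (d ^ i * t * (d ^ i)⁻¹) * fn⁻¹ =
      d ^ (k * i + s) * t * (d ^ (k * i + s))⁻¹ := fun i => by
    calc _ = (fn * d ^ i) * t * (fn * d ^ i)⁻¹ := by group
      _ = d ^ (k * i) * (fn * t * fn⁻¹) * (d ^ (k * i))⁻¹ := by rw [hconj]; group
      _ = _ := by rw [← hs, pow_add]; group
  -- the exponent is two or four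
  have hk24 : k % 7 = 2 ∨ k % 7 = 4 := by
    have h1 : d ^ (k * k * k) = d := by
      have c1 := hconj 1; have c2 := hconj (k * 1); have c3 := hconj (k * (k * 1))
      rw [pow_one] at c1
      have e : fn ^ 3 * d = d ^ (k * (k * (k * 1))) * fn ^ 3 := by
        rw [pow_succ, pow_two, mul_assoc, c1, ← mul_assoc, mul_assoc fn fn, c2, ← mul_assoc, c3]
        group
      rw [f3, one_mul, mul_one, mul_one] at e
      rw [mul_assoc]; exact e.symm
    have h2 : k * k * k % 7 = 1 := by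
      have hd7 : orderOf d = 7 := orderOf_eq_prime d7 dne
      have := (pow_eq_pow_iff_modEq (x := d) (n := k * k * k) (m := 1)).1 (by rw [h1, pow_one])
      rw [hd7] at this
      exact this
    have h3 : k % 7 ≠ 1 := by
      intro h1'
      have e0 : 3 * (s : ℕ) % 7 = 0 := by
        have a1 := hmove 0
        simp only [pow_zero, one_mul, inv_one, mul_one, mul_zero, zero_add] at a1
        have a2 := hmove s
        have a3 := hmove (k * s + s)
        have e : fn ^ 3 * t * (fn ^ 3)⁻¹ = fn * (fn * (fn * t * fn⁻¹) * fn⁻¹) * fn⁻¹ := by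
          rw [pow_succ, pow_two]; group
        rw [a1, a2, a3, f3] at e
        simp only [one_mul, inv_one, mul_one] at e
        have h0 := hinj 0 (k * (k * s + s) + s) (by simpa using e)
        have hh : (k * (k * (s : ℕ) + s) + s) % 7 = 3 * (s : ℕ) % 7 := by
          simp [Nat.add_mod, Nat.mul_mod, h1']
          omega
        omega
      have hs0 : (s : ℕ) = 0 := by have := s.isLt; omega
      have hfix : ∀ v ∈ V, fn * v * fn⁻¹ = v := by
        intro v hv
        by_cases hv1 : v = 1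
        · simp [hv1]
        · obtain ⟨i, rfl⟩ := horb v hv hv1
          rw [hmove, hs0, add_zero, hmodeq (k * i), Nat.mul_mod, h1', one_mul, Nat.mod_mod, ← hmodeq]
      have h4 := g.W4 fn ((g.fix_iff fn fM).1 hfix)
      exact fne (by rw [← pow_one fn, show (1 : ℕ) = Nat.gcd 4 3 from rfl]; exact pow_gcd_eq_one.2 ⟨h4, f3⟩)
    have key : ∀ a < 7, a * a * a % 7 = 1 → a ≠ 1 → a = 2 ∨ a = 4 := by decide
    exact key _ (Nat.mod_lt _ (by norm_num)) (by rw [← h2]; simp [Nat.mul_mod]) h3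
  -- a fixed vector
  obtain ⟨i, hi⟩ : ∃ i : ℕ, (k * i + s) % 7 = i % 7 := by
    rcases hk24 with h | h
    · exact ⟨6 * s, by rw [Nat.add_mod, Nat.mul_mod, h]; have := s.isLt; omega⟩
    · exact ⟨2 * s, by rw [Nat.add_mod, Nat.mul_mod, h]; have := s.isLt; omega⟩
  have hfixed : fn * (d ^ i * t * (d ^ i)⁻¹) * fn⁻¹ = d ^ i * t * (d ^ i)⁻¹ := by
    rw [hmove, hmodeq (k * i + s), hi, ← hmodeq]
  set f1 : G := (d ^ i)⁻¹ * fn * d ^ i with hf1
  have f1t : f1 * t * f1⁻¹ = t := by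
    rw [hf1]
    calc _ = (d ^ i)⁻¹ * (fn * (d ^ i * t * (d ^ i)⁻¹) * fn⁻¹) * d ^ i := by group
      _ = t := by rw [hfixed]; group
  have f1M : f1 ∈ M := mul_mem (mul_mem (inv_mem (pow_mem dM i)) fM) (pow_mem dM i)
  have f13 : f1 ^ 3 = 1 := by
    rw [hf1, show ((d ^ i)⁻¹ * fn * d ^ i) = (d ^ i)⁻¹ * fn * ((d ^ i)⁻¹)⁻¹ by rw [inv_inv], conj_pow, f3]
    group
  have f1ne : f1 ≠ 1 := fun e => fne (by
    rw [hf1] at e
    calc fn = d ^ i * ((d ^ i)⁻¹ * fn * d ^ i) * (d ^ i)⁻¹ := by group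
      _ = 1 := by rw [e]; group)
  have f1d : f1 * d * f1⁻¹ = d ^ k := by
    rw [hf1]
    calc _ = (d ^ i)⁻¹ * (fn * d * fn⁻¹) * d ^ i := by group
      _ = _ := by rw [hk, mul_assoc, (Commute.pow_pow_self d k i).eq, ← mul_assoc, inv_mul_cancel, one_mul]
  obtain ⟨f, fM', f3', fne', ft, fd⟩ : ∃ f : G, f ∈ M ∧ f ^ 3 = 1 ∧ f ≠ 1 ∧ f * t * f⁻¹ = t ∧
      f * d * f⁻¹ = d * d := by
    rcases hk24 with h | h
    · exact ⟨f1, f1M, f13, f1ne, f1t, by rw [f1d, hmodeq, h, pow_two]⟩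
    · refine ⟨f1⁻¹, inv_mem f1M, by rw [inv_pow, f13, inv_one], fun e => f1ne (inv_eq_one.1 e), ?_, ?_⟩
      · rw [inv_inv]
        conv_lhs => rw [← f1t]
        group
      · have e : f1 * (d * d) * f1⁻¹ = d := by
          rw [show f1 * (d * d) * f1⁻¹ = (f1 * d * f1⁻¹) * (f1 * d * f1⁻¹) by group, f1d, ← pow_add, hmodeq,
            show (k + k) % 7 = 1 by omega, pow_one]
        conv_lhs => rw [← e]
        group
  have fH : f ∈ H := by
    rw [g.hH, mem_centralizer_singleton_iff]; exact mul_inv_eq_iff_eq_mul.1 ft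
  have fc : f * c * f⁻¹ = c := by
    have hR := g.R_norm fH
    have hfc : f * c * f⁻¹ ∈ zpowers c := by
      refine g.Z_R _ ((mem_normalizer_iff.1 hR c).1 g.cR) fun y hy => ?_
      have hy' : f⁻¹ * y * f ∈ R := (mem_normalizer_iff.1 hR _).2 (by
        rwa [show f * (f⁻¹ * y * f) * f⁻¹ = y by group])
      calc y * (f * c * f⁻¹) = f * ((f⁻¹ * y * f) * c) * f⁻¹ := by group
        _ = _ := by rw [g.c_cen _ hy']; group
    obtain ⟨n, hn⟩ := mem_zpowers_iff.1 hfc
    have c4 := g.W4 c g.cW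
    have hn4 : f * c * f⁻¹ = c ^ (n % 4) := by
      rw [← hn]
      conv_lhs => rw [← Int.mul_ediv_add_emod n 4, zpow_add, zpow_mul, show c ^ (4 : ℤ) = 1 by exact_mod_cast c4,
        one_zpow, one_mul]
    have h0 := Int.emod_nonneg n (show (4 : ℤ) ≠ 0 by norm_num)
    have h4 := Int.emod_lt_of_pos n (show (0 : ℤ) < 4 by norm_num)
    have csq : f * (c * c) * f⁻¹ = c * c := by rw [g.cc, ft]
    interval_cases hh : n % 4
    · exfalso
      rw [zpow_zero] at hn4
      exact g.tne (by rw [← g.cc, conj_eq_one_iff.1 hn4, one_mul])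
    · rw [hn4, zpow_one]
    · exfalso
      rw [zpow_two] at hn4
      have : c = c * c := by
        calc c = f⁻¹ * (f * c * f⁻¹) * f := by group
          _ = f⁻¹ * (f * (c * c) * f⁻¹) * f := by rw [hn4, csq]
          _ = c * c := by group
      exact g.tne (by rw [← g.cc, ← this]; exact left_eq_mul.1 this)
    · exfalso
      have e3 : f * c * f⁻¹ = c⁻¹ := by
        rw [hn4, eq_inv_iff_mul_eq_one, ← zpow_add_one]; exact_mod_cast c4
      have e9 : f ^ 3 * c * (f ^ 3)⁻¹ = c⁻¹ := by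
        calc _ = f * (f * (f * c * f⁻¹) * f⁻¹) * f⁻¹ := by rw [pow_succ, pow_two]; group
          _ = f * (f * c⁻¹ * f⁻¹) * f⁻¹ := by rw [e3]
          _ = f * (f * c * f⁻¹)⁻¹ * f⁻¹ := by group
          _ = f * c * f⁻¹ := by conv_lhs => rw [e3, inv_inv]
          _ = c⁻¹ := e3
      rw [f3', one_mul, inv_one, mul_one, eq_inv_iff_mul_eq_one, g.cc] at e9
      exact g.tne e9
  -- the cubic
  obtain ⟨horb, hinj, hmem⟩ := g.d_orbit dM d7 dne
  set v : ℕ → G := fun i => d ^ i * t * (d ^ i)⁻¹ with hv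
  have v0 : v 0 = t := by simp [hv]
  have vs : ∀ i, v (i + 1) = d * v i * d⁻¹ := fun i => by simp only [hv, pow_succ']; group
  have v2 : ∀ i, v i * v i = 1 := fun i => ((g.V_iff _).1 (hmem i).1).2
  have vc : ∀ i j, v i * v j = v j * v i := fun i j =>
    g.W_comm _ ((g.V_iff _).1 (hmem i).1).1 _ ((g.V_iff _).1 (hmem j).1).1
  have v7 : ∀ i, v i = v (i % 7) := fun i => by simp only [hv]; rw [hmodeq i]
  have hd : ∀ {a b e : ℕ}, v a = v b * v e → v (a + 1) = v (b + 1) * v (e + 1) := fun {a b e} h => by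
    rw [vs, vs, vs, h]; group
  have noprod : v 2 ≠ v 0 * v 1 := fun e => by
    have e3 : v 3 = v 1 * v 2 := hd e
    rw [e, ← mul_assoc, vc 1 0, mul_assoc, v2, mul_one] at e3
    exact absurd (hinj 3 0 e3) (by norm_num)
  -- the value of the third conjugate
  have h3 : v 3 = v 0 * v 1 ∨ v 3 = v 0 * v 2 := by
    let F : Fin 2 × Fin 2 × Fin 2 → V := fun u =>
      ⟨v 0 ^ (u.1 : ℕ) * v 1 ^ (u.2.1 : ℕ) * v 2 ^ (u.2.2 : ℕ),
        mul_mem (mul_mem (pow_mem (hmem 0).1 _) (pow_mem (hmem 1).1 _)) (pow_mem (hmem 2).1 _)⟩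
    have ne : ∀ i j, i % 7 ≠ j % 7 → v i ≠ v j := fun i j hij e => hij (hinj i j e)
    have hFi : Function.Injective F := by
      have inv : ∀ i, (v i)⁻¹ = v i := fun i => inv_eq_of_mul_eq_one_right (v2 i)
      have p2 : ∀ i (n : ℕ), v i ^ n = v i ^ (n % 2) := fun i n => by
        conv_lhs => rw [← Nat.div_add_mod n 2, pow_add, pow_mul, pow_two, v2, one_pow, one_mul]
      have hmul : ∀ x y, (F x : G) * F y = F (x + y) := by
        rintro ⟨i, j, k⟩ ⟨i', j', k'⟩
        simp only [F, Prod.mk_add_mk, Fin.val_add]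
        rw [← p2, ← p2, ← p2, pow_add, pow_add, pow_add]
        have k1 : Commute (v 0) (v 1) := vc 0 1
        have k2 : Commute (v 0) (v 2) := vc 0 2
        have k12 : Commute (v 1) (v 2) := vc 1 2
        calc v 0 ^ (i : ℕ) * v 1 ^ (j : ℕ) * v 2 ^ (k : ℕ) * (v 0 ^ (i' : ℕ) * v 1 ^ (j' : ℕ) * v 2 ^ (k' : ℕ))
            = v 0 ^ (i : ℕ) * (v 1 ^ (j : ℕ) * v 2 ^ (k : ℕ) * v 0 ^ (i' : ℕ)) * (v 1 ^ (j' : ℕ) * v 2 ^ (k' : ℕ)) := by
              group
          _ = v 0 ^ (i : ℕ) * v 0 ^ (i' : ℕ) * v 1 ^ (j : ℕ) * (v 2 ^ (k : ℕ) * v 1 ^ (j' : ℕ)) * v 2 ^ (k' : ℕ) := by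
              rw [← ((k1.pow_pow (i' : ℕ) (j : ℕ)).mul_right (k2.pow_pow (i' : ℕ) (k : ℕ))).eq]; group
          _ = _ := by rw [← (k12.pow_pow (j' : ℕ) (k : ℕ)).eq]; group
      intro x y e
      have e' := congrArg Subtype.val e
      have key : (F (x + y) : G) = 1 := by
        rw [← hmul, ← e']
        exact ((g.V_iff _).1 (F x).2).2
      have ker : ∀ z : Fin 2 × Fin 2 × Fin 2, (F z : G) = 1 → z = 0 := by
        rintro ⟨i, j, k⟩ h
        simp only [F] at h
        fin_cases i <;> fin_cases j <;> fin_cases k <;>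
          simp only [Fin.isValue, Fin.zero_eta, Fin.mk_one, Fin.val_zero, Fin.val_one, pow_zero, pow_one,
            one_mul, mul_one] at h
        · rfl
        · exact absurd h (hmem 2).2
        · exact absurd h (hmem 1).2
        · exact absurd ((eq_inv_of_mul_eq_one_left h).trans (inv 2)) (ne 1 2 (by norm_num))
        · exact absurd h (hmem 0).2
        · exact absurd ((eq_inv_of_mul_eq_one_left h).trans (inv 2)) (ne 0 2 (by norm_num))
        · exact absurd ((eq_inv_of_mul_eq_one_left h).trans (inv 1)) (ne 0 1 (by norm_num))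
        · exact absurd ((eq_inv_of_mul_eq_one_left h).trans (inv 2)).symm noprod
      have hz := ker _ key
      have fin : ∀ a b : Fin 2 × Fin 2 × Fin 2, a + b = 0 → a = b := by decide
      exact fin x y hz
    have : Fintype V := Fintype.ofFinite _
    obtain ⟨⟨a, b, e⟩, hu⟩ := ((Fintype.bijective_iff_injective_and_card F).2 ⟨hFi, by
      rw [← Nat.card_eq_fintype_card (α := V), g.card_V]; rfl⟩).2 ⟨v 3, (hmem 3).1⟩
    have hu' := congrArg Subtype.val hu
    simp only [F] at hu'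
    fin_cases a <;> fin_cases b <;> fin_cases e <;>
      simp only [Fin.isValue, Fin.zero_eta, Fin.mk_one, Fin.val_zero, Fin.val_one, pow_zero, pow_one, one_mul,
        mul_one] at hu'
    · exact absurd hu'.symm (hmem 3).2
    · exact absurd hu' (ne 2 3 (by norm_num))
    · exact absurd hu' (ne 1 3 (by norm_num))
    · exfalso
      apply noprod
      have e' : d * (v 0 * v 1) * d⁻¹ = d * v 2 * d⁻¹ := by
        rw [← vs 2, show d * (v 0 * v 1) * d⁻¹ = v 1 * v 2 by rw [vs 1, vs 0]; group]; exact hu'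
      exact (mul_left_cancel (mul_right_cancel e')).symm
    · exact absurd hu' (ne 0 3 (by norm_num))
    · exact Or.inr hu'.symm
    · exact Or.inl hu'.symm
    · exfalso
      have e4 : v 4 = v 1 * v 2 * v 3 :=
        calc v 4 = d * v 3 * d⁻¹ := vs 3
          _ = d * (v 0 * v 1 * v 2) * d⁻¹ := by rw [hu']
          _ = (d * v 0 * d⁻¹) * (d * v 1 * d⁻¹) * (d * v 2 * d⁻¹) := by group
          _ = _ := by rw [← vs 0, ← vs 1, ← vs 2]
      rw [← hu'] at e4
      have : v 4 = v 0 := by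
        rw [e4]
        calc v 1 * v 2 * (v 0 * v 1 * v 2) = v 1 * (v 2 * v 0) * v 1 * v 2 := by group
          _ = (v 1 * v 0) * (v 2 * v 1) * v 2 := by rw [vc 2 0]; group
          _ = v 0 * (v 1 * v 1) * (v 2 * v 2) := by rw [vc 1 0, vc 2 1]; group
          _ = v 0 := by rw [v2, v2, mul_one, mul_one]
      exact absurd (hinj 4 0 this) (by norm_num)
  rcases h3 with h3 | h3
  · refine ⟨d, f, dM, d7, dne, fM', fH, f3', fne', fd, fc, ?_⟩
    have e1 : v 1 = d * t * d⁻¹ := by simp [hv]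
    rw [← e1]; show v 3 = t * v 1; rw [← v0]; exact h3
  · refine ⟨d⁻¹, f, inv_mem dM, by rw [inv_pow, d7, inv_one], fun e => dne (inv_eq_one.1 e), fM', fH, f3', fne',
      ?_, fc, ?_⟩
    · rw [show f * d⁻¹ * f⁻¹ = (f * d * f⁻¹)⁻¹ by group, fd, mul_inv_rev]
    · have inv : ∀ i ≤ 7, d⁻¹ ^ i = d ^ (7 - i) := fun i hi => by
        rw [inv_pow]; exact inv_eq_of_mul_eq_one_right (by rw [← pow_add, Nat.add_sub_cancel' hi, d7])
      have e4 : (d⁻¹) ^ 3 * t * ((d⁻¹) ^ 3)⁻¹ = v 4 := by simp only [hv]; rw [inv 3 (by norm_num)]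
      have e6 : d⁻¹ * t * d⁻¹⁻¹ = v 6 := by
        simp only [hv]; rw [show d⁻¹ = d⁻¹ ^ 1 from (pow_one _).symm, inv 1 (by norm_num)]
      rw [e4, e6]
      have h4 := hd h3; have h5 := hd h4; have h6 := hd h5; have h7 := hd h6
      rw [v7 7, show (7 : ℕ) % 7 = 0 from rfl, v0] at h7
      rw [h7, mul_assoc, v2, mul_one]

/-- The elements with coordinates. -/
theorem Ground.exists_gens (g : Ground t H R M W V c) : ∃ d f : G, Gens t H R M W V c d f := by
  classical
  obtain ⟨d, f, dM, d7, dne, fM, fH, f3, fne, fd, fc, hcub⟩ := g.exists_df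
  refine ⟨d, f, ?_⟩
  have hWd : ∀ n : ℕ, ∀ w ∈ W, d ^ n * w * (d ^ n)⁻¹ ∈ W := fun n w hw =>
    (mem_normalizer_iff.1 (g.W_norm (pow_mem dM n)) w).1 hw
  have e1W : e1 c d ∈ W := by simpa [e1] using hWd 1 c g.cW
  have e2W : e2 c d ∈ W := by
    have := hWd 2 c g.cW
    rw [pow_two, mul_inv_rev, ← mul_assoc] at this
    exact this
  have nfm : ∀ u, nfW c d u ∈ W := fun u =>
    mul_mem (mul_mem (pow_mem g.cW _) (pow_mem e1W _)) (pow_mem e2W _)
  have hm4 : ∀ x ∈ W, ∀ n : ℕ, x ^ n = x ^ (n % 4) := fun x hx n => by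
    conv_lhs => rw [← Nat.div_add_mod n 4, pow_add, pow_mul, g.W4 x hx, one_pow, one_mul]
  have nmul : ∀ a b : V4, nfW c d a * nfW c d b = nfW c d (a + b) := by
    rintro ⟨i, j, k⟩ ⟨i', j', k'⟩
    simp only [nfW, Prod.mk_add_mk, Fin.val_add]
    rw [← hm4 c g.cW, ← hm4 _ e1W, ← hm4 _ e2W, pow_add, pow_add, pow_add]
    calc c ^ (i : ℕ) * e1 c d ^ (j : ℕ) * e2 c d ^ (k : ℕ) *
          (c ^ (i' : ℕ) * e1 c d ^ (j' : ℕ) * e2 c d ^ (k' : ℕ))
        = c ^ (i : ℕ) * ((e1 c d ^ (j : ℕ) * e2 c d ^ (k : ℕ)) * c ^ (i' : ℕ)) *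
            (e1 c d ^ (j' : ℕ) * e2 c d ^ (k' : ℕ)) := by group
      _ = c ^ (i : ℕ) * c ^ (i' : ℕ) * e1 c d ^ (j : ℕ) * (e2 c d ^ (k : ℕ) * e1 c d ^ (j' : ℕ)) *
            e2 c d ^ (k' : ℕ) := by
        rw [g.W_comm _ (mul_mem (pow_mem e1W _) (pow_mem e2W _)) _ (pow_mem g.cW _)]; group
      _ = _ := by rw [g.W_comm _ (pow_mem e2W _) _ (pow_mem e1W _)]; group
  have nzero : nfW c d (0 : V4) = 1 := by simp [nfW]
  obtain ⟨horb, -, -⟩ := g.d_orbit dM d7 dne
  have c4 := g.W4 c g.cW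
  -- the involutions
  have hVall : ∀ v ∈ V, ∃ u : V4, (u + u = 0) ∧ nfW c d u = v := by
    have ht : nfW c d (2, 0, 0) = t := by rw [← g.cc]; simp [nfW, pow_two]
    have hv1 : nfW c d (0, 2, 0) = d * t * d⁻¹ := by rw [← g.cc]; simp [nfW, pow_two, e1, mul_assoc]
    have hv2 : nfW c d (0, 0, 2) = d ^ 2 * t * (d ^ 2)⁻¹ := by
      rw [← g.cc]; simp [nfW, pow_two, e2, mul_assoc]
    let S : ℕ → Prop := fun i => ∃ u : V4, u + u = 0 ∧ nfW c d u = d ^ i * t * (d ^ i)⁻¹
    have s0 : S 0 := ⟨(2, 0, 0), by decide, by simp [ht]⟩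
    have s1 : S 1 := ⟨(0, 2, 0), by decide, by simp [hv1]⟩
    have s2 : S 2 := ⟨(0, 0, 2), by decide, hv2⟩
    have s3 : S 3 := ⟨(2, 2, 0), by decide, by
      rw [show ((2, 2, 0) : V4) = (2, 0, 0) + (0, 2, 0) by decide, ← nmul, ht, hv1, hcub]⟩
    have step : ∀ i, d ^ (i + 3) * t * (d ^ (i + 3))⁻¹ =
        (d ^ i * t * (d ^ i)⁻¹) * (d ^ (i + 1) * t * (d ^ (i + 1))⁻¹) := by
      intro i
      calc d ^ (i + 3) * t * (d ^ (i + 3))⁻¹ = d ^ i * (d ^ 3 * t * (d ^ 3)⁻¹) * (d ^ i)⁻¹ := by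
            rw [pow_add]; group
        _ = _ := by rw [hcub, pow_succ]; group
    have add : ∀ {i}, S i → S (i + 1) → S (i + 3) := by
      rintro i ⟨u, hu, eu⟩ ⟨w, hw, ew⟩
      exact ⟨u + w, by rw [add_add_add_comm, hu, hw, add_zero], by rw [← nmul, eu, ew, step]⟩
    have s4 := add s1 s2; have s5 := add s2 s3; have s6 := add s3 s4
    intro v hv
    by_cases hv1' : v = 1
    · exact ⟨0, by decide, by rw [hv1', nzero]⟩
    · obtain ⟨i, rfl⟩ := horb v hv hv1'
      fin_cases i <;> assumption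
  have nsurj : ∀ w ∈ W, ∃ u, nfW c d u = w := by
    intro w hw
    have hw2 : w * w ∈ V := (g.V_iff _).2 ⟨mul_mem hw hw, by
      have := g.W4 w hw
      rw [show (4 : ℕ) = 2 + 2 from rfl, pow_add, pow_two] at this
      exact this⟩
    obtain ⟨u, hu, eu⟩ := hVall _ hw2
    obtain ⟨h, hh⟩ : ∃ h : V4, h + h = u := by
      have key : ∀ u : V4, u + u = 0 → ∃ h : V4, h + h = u := by decide +kernel
      exact key u hu
    have hz : w * nfW c d (-h) ∈ V := (g.V_iff _).2 ⟨mul_mem hw (nfm _), by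
      calc w * nfW c d (-h) * (w * nfW c d (-h)) = w * (nfW c d (-h) * w) * nfW c d (-h) := by group
        _ = (w * w) * (nfW c d (-h) * nfW c d (-h)) := by rw [g.W_comm _ (nfm _) _ hw]; group
        _ = 1 := by rw [← eu, nmul, nmul, ← hh, show h + h + (-h + -h) = 0 by abel, nzero]⟩
    obtain ⟨z, -, ez⟩ := hVall _ hz
    refine ⟨z + h, ?_⟩
    rw [← nmul, ez, mul_assoc, nmul, neg_add_cancel, nzero, mul_one]
  have ninj : Function.Injective (nfW c d) := by
    let F : V4 → W := fun u => ⟨nfW c d u, nfm u⟩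
    have hF : Function.Surjective F := fun w => by
      obtain ⟨u, hu⟩ := nsurj w w.2
      exact ⟨u, Subtype.ext hu⟩
    have hb := (Nat.bijective_iff_surjective_and_card F).2 ⟨hF, by
      rw [g.card_W, Nat.card_eq_fintype_card]; rfl⟩
    exact fun a b e => hb.1 (Subtype.ext e)
  -- the cubic over `ℤ/4`
  obtain ⟨u, hu⟩ := nsurj _ (by simpa using hWd 1 _ e2W : d * e2 c d * d⁻¹ ∈ W)
  have npow : ∀ (n : ℕ) (a : V4), nfW c d a ^ n = nfW c d (n • a) := fun n a => by
    induction n with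
    | zero => simp [nzero]
    | succ n ih => rw [pow_succ, ih, nmul, succ_nsmul]
  have hu2 : u + u = (2, 2, 0) := by
    apply ninj
    rw [← nmul, hu]
    have a : nfW c d ((2 : Fin 4), (2 : Fin 4), (0 : Fin 4)) = t * (d * t * d⁻¹) := by
      rw [← g.cc]; simp [nfW, pow_two, e1, mul_assoc]
    rw [a, ← hcub, ← g.cc]
    simp only [e2, pow_succ, pow_zero, one_mul]; group
  have huv : u = (1, 3, 2) := by
    refine cubic_lift u ?_ ?_
    · have key : ∀ u : V4, u + u = (2, 2, 0) →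
        (u.1 : ℕ) % 2 = 1 ∧ (u.2.1 : ℕ) % 2 = 1 ∧ (u.2.2 : ℕ) % 2 = 0 := by decide +kernel
      exact key u hu2
    · set T : V4 → V4 := fun v => (v.2.2 * u.1, v.1 + v.2.2 * u.2.1, v.2.1 + v.2.2 * u.2.2) with hT
      have hTd : ∀ v, nfW c d (T v) = d * nfW c d v * d⁻¹ := by
        intro v
        have e : d * nfW c d v * d⁻¹ = nfW c d ((v.1 : ℕ) • ((0, 1, 0) : V4) + (v.2.1 : ℕ) • ((0, 0, 1) : V4) + (v.2.2 : ℕ) • u) := by
          rw [← nmul, ← nmul, ← npow, ← npow, ← npow, hu]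
          have a : nfW c d ((0 : Fin 4), (1 : Fin 4), (0 : Fin 4)) = d * c * d⁻¹ := by simp [nfW, e1]
          have b : nfW c d ((0 : Fin 4), (0 : Fin 4), (1 : Fin 4)) = d * e1 c d * d⁻¹ := by
            simp [nfW, e1, e2, mul_assoc]
          rw [a, b, conj_pow, conj_pow, conj_pow]
          simp only [nfW]; group
        rw [e]
        congr 1
        have key : ∀ u v : V4, (v.2.2 * u.1, v.1 + v.2.2 * u.2.1, v.2.1 + v.2.2 * u.2.2) =
            (v.1 : ℕ) • ((0, 1, 0) : V4) + (v.2.1 : ℕ) • ((0, 0, 1) : V4) + (v.2.2 : ℕ) • u := by decide +kernel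
        exact key u v
      have it : ∀ n v, nfW c d (T^[n] v) = d ^ n * nfW c d v * (d ^ n)⁻¹ := by
        intro n
        induction n with
        | zero => intro v; simp
        | succ n ih => intro v; rw [Function.iterate_succ_apply', hTd, ih, pow_succ']; group
      apply ninj
      rw [it 7, d7]; simp
  exact
    { toGround := g
      wd :=
        { c4 := c4
          cc := g.W_comm _ g.cW _ e1W
          cc2 := g.W_comm _ g.cW _ e2W
          poly := by rw [← hu, huv]; simp [nfW]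
          d7 := d7 }
      f3 := f3, fd := fd, fc := fc, dM := dM, fM := fM, fH := fH, d_ne := dne, f_ne := fne
      nf_mem := nfm, nf_surj := nsurj, nf_inj := ninj }

end Cfsg.Agent.HSRecog.MSide
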