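import Cfsg.Agent.HSRecog.MSide.Action

/-!
The involution `r` inverting `f`, its action and the vanishing of the first parameter.
-/

set_option autoImplicit false
set_option maxRecDepth 100000
set_option linter.all false

namespace Cfsg.Agent.HSRecog.MSide

open Subgroup Cfsg.Agent.HSRecog Cfsg.Agent.HSRecog.Machine
open Cfsg.Agent.HSRecog.MRel (nfW)

/-- A candidate for the action of `r`. -/
def rCand (c0 a v : V4) : V4 :=
  (v.1 : ℕ) • c0 + (v.2.1 : ℕ) • a + (v.2.2 : ℕ) • fP 2 a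

set_option synthInstance.maxHeartbeats 400000 in
set_option synthInstance.maxSize 20000 in
theorem rCand_unique : ∀ a : V4, a + a = (0, 0, 2) → ∀ c0 : V4, (c0 = (1, 0, 0) ∨ c0 = (3, 0, 0)) →
    (rCand c0 a (rCand c0 a (0, 1, 0)) = (0, 1, 0) ∧
      rCand c0 a (dV (rCand c0 a (dV (rCand c0 a (dV (1, 0, 0)))))) = (1, 0, 0) ∧
      rCand c0 a (dV (rCand c0 a (dV (rCand c0 a (dV (0, 1, 0)))))) = (0, 1, 0)) →
    c0 = (3, 0, 0) ∧ a = (0, 0, 1) := by
  decide +kernel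

theorem act_s0 : ∀ a : U, dbl (comb s0 a) = rV (dbl a) := by decide +kernel

theorem rr_dbl : ∀ a : U, rV (rV (dbl a)) = dbl a := by decide +kernel

theorem rd_dbl : ∀ a : U, rV (dV (rV (dV (rV (dV (dbl a)))))) = dbl a := by decide +kernel

theorem rfrf_dbl : ∀ a : U, rV (fV (rV (fV (dbl a)))) = dbl a := by decide +kernel

theorem norm_facts : ∀ w : V4, w + fP 2 w + fP 4 w = 0 → ∃ z, w + fP 2 z = z := by decide +kernel

theorem fixed_facts : ∀ w : V4,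
    (rV w = w → fV w = w → w = (0, 0, 0) ∨ w = (2, 0, 0)) ∧ (rV (dV w) = w → w = (0, w.2.1, 0)) := by
  decide +kernel

/-- The word witnessing the collapse. -/
def witL : List (Fin 4) := [3, 1, 1] ++ [3, 1, 3, 1, 3, 1]

/-- The same, with the parameter substituted. -/
def witR (b : Fin 4) : List (Fin 4) :=
  [3, 1, 1] ++ (List.replicate (b : ℕ) [1, 0, 1, 1, 1, 1, 1, 1]).flatten

theorem wit_facts : ∀ b : Fin 4, (run 1 b start witL).2 = (run 1 b start (witR b)).2 ∧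
    (run 1 b start witL).1 ≠ (run 1 b start (witR b)).1 := by
  decide +kernel

variable {G : Type*} [Group G] [Finite G] {t c d f r : G} {H R M W V : Subgroup G}

namespace Gens

variable (g : Gens t H R M W V c d f)
include g

theorem exists_pre : ∃ r ε b, Pre c d f r ε b ∧ r ∈ M ∧ (ε = 0 ∨ ε = 1) := by
  classical
  obtain ⟨r₀, hr₀, hA⟩ := g.exists_swap
  have A0 : ∀ a, r₀ * nfW c d (dbl a) * r₀⁻¹ = nfW c d (rV (dbl a)) := fun a => by
    rw [← act_s0]; exact hA a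
  -- adjust by the normal subgroup
  obtain ⟨w, hw⟩ := g.nf_surj (r₀ * f * r₀⁻¹ * f) ((g.fix_iff _
      (mul_mem (mul_mem (mul_mem hr₀ g.fM) (inv_mem hr₀)) g.fM)).1 fun v hv => by
    obtain ⟨a, rfl⟩ := g.nu_surj hv
    have i0 : ∀ a, r₀⁻¹ * nfW c d (dbl a) * r₀ = nfW c d (rV (dbl a)) := fun a => by
      have e2 : rV (dbl a) = dbl (comb s0 a) := (act_s0 a).symm
      rw [e2]
      conv_lhs => rw [← rr_dbl a, e2, ← A0]
      group
    have fd' : ∀ a, fV (dbl a) = dbl (hlf (fV (dbl a))) := by decide +kernel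
    show _ * nfW c d (dbl a) * _ = nfW c d (dbl a)
    calc r₀ * f * r₀⁻¹ * f * nfW c d (dbl a) * (r₀ * f * r₀⁻¹ * f)⁻¹
        = r₀ * (f * (r₀⁻¹ * (f * nfW c d (dbl a) * f⁻¹) * r₀) * f⁻¹) * r₀⁻¹ := by group
      _ = r₀ * nfW c d (fV (rV (fV (dbl a)))) * r₀⁻¹ := by rw [g.conj_f, fd', i0, g.conj_f]
      _ = nfW c d (dbl a) := by
        have fr' : ∀ a, fV (rV (fV (dbl a))) = dbl (hlf (fV (rV (fV (dbl a))))) := by decide +kernel
        rw [fr', A0, ← fr', rfrf_dbl])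
  have f3' : f⁻¹ * f⁻¹ * f⁻¹ = 1 := by rw [← mul_inv_rev, ← mul_inv_rev, ← pow_two, ← pow_succ', g.f3, inv_one]
  have hw' : r₀ * f * r₀⁻¹ = nfW c d w * f⁻¹ := by rw [hw]; group
  have hnorm : w + fP 2 w + fP 4 w = 0 := g.nf_inj (by
    rw [g.wd.nf_zero, ← g.wd.nf_mul, ← g.wd.nf_mul, show fP 4 w = fP 2 (fP 2 w) from rfl,
      ← g.conj_finv (fP 2 w), ← g.conj_finv w]
    calc nfW c d w * (f⁻¹ * nfW c d w * f) * (f⁻¹ * (f⁻¹ * nfW c d w * f) * f)
        = (nfW c d w * f⁻¹) * (nfW c d w * f⁻¹) * (nfW c d w * f⁻¹) * (f⁻¹ * f⁻¹ * f⁻¹)⁻¹ := by simp [mul_assoc]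
      _ = 1 := by
        rw [f3', ← hw', inv_one, mul_one]
        calc r₀ * f * r₀⁻¹ * (r₀ * f * r₀⁻¹) * (r₀ * f * r₀⁻¹) = r₀ * f ^ 3 * r₀⁻¹ := by
              rw [pow_succ, pow_two]; group
          _ = 1 := by rw [g.f3, mul_one, mul_inv_cancel])
  obtain ⟨z, hz⟩ := norm_facts w hnorm
  obtain ⟨r, hr⟩ : ∃ r, r = nfW c d (-z) * r₀ := ⟨_, rfl⟩
  have rM : r ∈ M := hr ▸ mul_mem (g.W_le (g.nf_mem _)) hr₀
  have rA : ∀ a, r * nfW c d (dbl a) * r⁻¹ = nfW c d (rV (dbl a)) := fun a => by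
    rw [hr, show nfW c d (-z) * r₀ * nfW c d (dbl a) * (nfW c d (-z) * r₀)⁻¹ =
      nfW c d (-z) * (r₀ * nfW c d (dbl a) * r₀⁻¹) * (nfW c d (-z))⁻¹ by group, A0, ← g.wd.nf_neg,
      g.wd.nf_mul, g.wd.nf_mul]
    congr 1; abel
  have rf : r * f * r⁻¹ = f⁻¹ := by
    calc r * f * r⁻¹ = nfW c d (-z) * (r₀ * f * r₀⁻¹) * (nfW c d (-z))⁻¹ := by rw [hr]; group
      _ = nfW c d (-z) * nfW c d w * (f⁻¹ * nfW c d z * f) * f⁻¹ := by
        rw [hw', ← g.wd.nf_neg, neg_neg]; group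
      _ = f⁻¹ := by
        rw [g.conj_finv, g.wd.nf_mul, g.wd.nf_mul, add_assoc, hz, neg_add_cancel, g.wd.nf_zero, one_mul]
  have rH : r ∈ H := by
    rw [g.hH, mem_centralizer_singleton_iff]
    have e := rA (1, 0, 0)
    rw [show rV (dbl (1, 0, 0)) = dbl (1, 0, 0) by decide, ← nu, g.nu_t] at e
    exact mul_inv_eq_iff_eq_mul.1 e
  -- the action
  obtain ⟨c0, hc0, hrc⟩ : ∃ c0 : V4, (c0 = (1, 0, 0) ∨ c0 = (3, 0, 0)) ∧ r * c * r⁻¹ = nfW c d c0 := by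
    rcases g.conj_c rH with e | e
    · exact ⟨_, Or.inl rfl, e⟩
    · exact ⟨_, Or.inr rfl, e⟩
  have e1W : e1 c d ∈ W := by simpa [nfW] using g.nf_mem (0, 1, 0)
  obtain ⟨a, ha⟩ := g.nf_surj _ ((mem_normalizer_iff.1 (g.W_norm rM) _).1 e1W)
  have ha2 : a + a = (0, 0, 2) := g.nf_inj (by
    have e := rA (0, 1, 0)
    rw [show rV (dbl (0, 1, 0)) = ((0, 0, 2) : V4) by decide,
      show dbl (0, 1, 0) = ((0, 1, 0) + (0, 1, 0) : V4) by decide, ← g.wd.nf_mul] at e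
    rw [← g.wd.nf_mul, ha, ← e]
    simp [nfW])
  have fe : r * e2 c d * r⁻¹ = nfW c d (fP 2 a) := by
    rw [← g.conj_finv, ha]
    have h2 : e2 c d = f * e1 c d * f⁻¹ := by
      have := g.conj_f (0, 1, 0)
      rw [show fV (0, 1, 0) = ((0, 0, 1) : V4) by decide] at this
      simpa [nfW] using this.symm
    calc r * e2 c d * r⁻¹ = (r * f * r⁻¹) * (r * e1 c d * r⁻¹) * (r * f * r⁻¹)⁻¹ := by rw [h2]; group
      _ = _ := by rw [rf]; group
  have hφ : ∀ v, r * nfW c d v * r⁻¹ = nfW c d (rCand c0 a v) := fun v => by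
    rw [rCand, ← g.wd.nf_mul, ← g.wd.nf_mul, g.wd.nf_nsmul, g.wd.nf_nsmul, g.wd.nf_nsmul, ← hrc, ha, ← fe,
      conj_pow, conj_pow, conj_pow]
    simp only [nfW]; group
  obtain ⟨w2, hw2⟩ := g.nf_surj (r * r) ((g.fix_iff _ (mul_mem rM rM)).1 fun v hv => by
    obtain ⟨x, rfl⟩ := g.nu_surj hv
    show _ * nfW c d (dbl x) * _ = nfW c d (dbl x)
    rw [show r * r * nfW c d (dbl x) * (r * r)⁻¹ = r * (r * nfW c d (dbl x) * r⁻¹) * r⁻¹ by group, rA, ← act_s0,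
      rA, act_s0, rr_dbl])
  have rdM : (r * d) ^ 3 ∈ M := pow_mem (mul_mem rM g.dM) 3
  obtain ⟨w3, hw3⟩ := g.nf_surj ((r * d) ^ 3) ((g.fix_iff _ rdM).1 fun v hv => by
    obtain ⟨x, rfl⟩ := g.nu_surj hv
    show _ * nfW c d (dbl x) * _ = nfW c d (dbl x)
    have dd : ∀ x, dV (dbl x) = dbl (hlf (dV (dbl x))) := by decide +kernel
    have rd' : ∀ x, rV (dV (dbl x)) = dbl (hlf (rV (dV (dbl x)))) := by decide +kernel
    have st : ∀ x, r * d * nfW c d (dbl x) * (r * d)⁻¹ = nfW c d (rV (dV (dbl x))) := fun x => by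
      rw [show r * d * nfW c d (dbl x) * (r * d)⁻¹ = r * (d * nfW c d (dbl x) * d⁻¹) * r⁻¹ by group,
        g.wd.conj_d, dd, rA, ← dd]
    calc (r * d) ^ 3 * nfW c d (dbl x) * ((r * d) ^ 3)⁻¹
        = r * d * (r * d * (r * d * nfW c d (dbl x) * (r * d)⁻¹) * (r * d)⁻¹) * (r * d)⁻¹ := by
          rw [pow_succ, pow_two]; group
      _ = nfW c d (dbl x) := by
        rw [st, rd' x, st, rd' (hlf (rV (dV (dbl x)))), st, ← rd', ← rd', rd_dbl])
  have twice : ∀ v, rCand c0 a (rCand c0 a v) = v := fun v => g.nf_inj (by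
    rw [← hφ, ← hφ, show r * (r * nfW c d v * r⁻¹) * r⁻¹ = (r * r) * nfW c d v * (r * r)⁻¹ by group, ← hw2,
      g.wd.nf_mul, ← g.wd.nf_neg, g.wd.nf_mul]
    congr 1; abel)
  have thrice : ∀ v, rCand c0 a (dV (rCand c0 a (dV (rCand c0 a (dV v))))) = v := fun v => g.nf_inj (by
    rw [← hφ, ← g.wd.conj_d, ← hφ, ← g.wd.conj_d, ← hφ, ← g.wd.conj_d,
      show r * (d * (r * (d * (r * (d * nfW c d v * d⁻¹) * r⁻¹) * d⁻¹) * r⁻¹) * d⁻¹) * r⁻¹ =
        (r * d) ^ 3 * nfW c d v * ((r * d) ^ 3)⁻¹ by rw [pow_succ, pow_two]; group, ← hw3,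
      g.wd.nf_mul, ← g.wd.nf_neg, g.wd.nf_mul]
    congr 1; abel)
  obtain ⟨h3, ha'⟩ := rCand_unique a ha2 c0 hc0 ⟨twice _, thrice _, thrice _⟩
  subst h3 ha'
  have hrV : ∀ v, r * nfW c d v * r⁻¹ = nfW c d (rV v) := fun v => by
    have key : ∀ v, rCand (3, 0, 0) (0, 0, 1) v = rV v := by decide +kernel
    rw [hφ, key]
  have hrr : rV w2 = w2 := g.nf_inj (by rw [← hrV, hw2]; group)
  have hfr : fV w2 = w2 := g.nf_inj (by
    rw [← g.conj_f, hw2]
    have e : r * r * f = f * (r * r) := by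
      calc r * r * f = r * (r * f * r⁻¹) * r⁻¹ * (r * r) := by group
        _ = r * f⁻¹ * r⁻¹ * (r * r) := by rw [rf]
        _ = (r * f * r⁻¹)⁻¹ * (r * r) := by group
        _ = f * (r * r) := by rw [rf, inv_inv]
    rw [← e]; group)
  have hrd : rV (dV w3) = w3 := g.nf_inj (by
    rw [← hrV, ← g.wd.conj_d, hw3, pow_succ, pow_two]; group)
  obtain ⟨ε, hε, rfl⟩ : ∃ ε : Fin 4, (ε = 0 ∨ ε = 1) ∧ w2 = (2 * ε, 0, 0) := by
    rcases (fixed_facts w2).1 hrr hfr with e | e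
    · exact ⟨0, Or.inl rfl, e⟩
    · exact ⟨1, Or.inr rfl, e⟩
  refine ⟨r, ε, w3.2.1, ⟨g.wd, g.f3, g.fd, g.fc, ?_, ?_, ?_, rf, hw2.symm, ?_⟩, rM, hε⟩
  · rw [hrc, show ((3, 0, 0) : V4) = -(1, 0, 0) by decide, g.wd.nf_neg]
    simp [nfW]
  · rw [← ha]; simp [nfW]
  · rw [fe, show fP 2 (0, 0, 1) = ((0, 1, 0) : V4) by decide]; simp [nfW]
  · rw [← (fixed_facts w3).2 hrd]; exact hw3.symm

theorem eps_zero {ε b : Fin 4} (p : Pre c d f r ε b) (hε : ε = 0 ∨ ε = 1) : ε = 0 := by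
  refine hε.resolve_right ?_
  rintro rfl
  obtain ⟨e2, ne⟩ := wit_facts b
  have hd : d⁻¹ = d * (d * (d * (d * (d * d)))) := inv_eq_of_mul_eq_one_right (by
    rw [← g.wd.d7]; simp only [pow_succ, pow_zero, one_mul, mul_assoc])
  have eL : (witL.map (lt c d f r)).prod = ([3, 1, 1].map (lt c d f r)).prod * (r * d) ^ 3 := by
    rw [witL, List.map_append, List.prod_append]
    simp [lt, pow_succ, mul_assoc]
  have eR : ((witR b).map (lt c d f r)).prod = ([3, 1, 1].map (lt c d f r)).prod * e1 c d ^ (b : ℕ) := by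
    rw [witR, List.map_append, List.prod_append, List.map_flatten, List.prod_flatten, List.map_replicate,
      List.map_replicate, List.prod_replicate]
    simp [lt, e1, hd, mul_assoc]
  have key : ev c d f r (run 1 b start witL) = ev c d f r (run 1 b start (witR b)) := by
    rw [← p.word, ← p.word, eL, eR, p.rd]
    simp [nfW]
  apply ne
  simp only [ev, e2] at key
  exact g.nf_inj (mul_right_cancel (mul_right_cancel (mul_right_cancel key)))

end Gens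

end Cfsg.Agent.HSRecog.MSide
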