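import Cfsg.Agent.HSRecog.MSide.RPart
import Cfsg.Agent.HSRecog.Loc
import Cfsg.Agent.HSRecog.QuotFive

/-!
The remaining case is impossible, and the standard generators exist.
-/

set_option autoImplicit false
set_option maxRecDepth 100000
set_option linter.all false
set_option synthInstance.maxSize 20000
set_option synthInstance.maxHeartbeats 400000

namespace Cfsg.Agent.HSRecog.MSide

open Subgroup Cfsg.Agent.HSRecog Cfsg.Agent.HSRecog.Machine
open Cfsg.Agent.HSRecog.MRel (nfW)

/-- The four coset representatives of `R ∩ W` in `R`. -/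
def wP (i : Fin 2) : Fin 4 → List (Fin 4)
  | 0 => []
  | 1 => wA i 0
  | 2 => [2] ++ wA i 0 ++ [2, 2]
  | 3 => wA i 0 ++ ([2] ++ wA i 0 ++ [2, 2])

/-- The word of an element of `R`. -/
def wR (z : V4) (k : Fin 4) : List (Fin 4) :=
  List.replicate z.1.val 0 ++ ((List.replicate z.2.1.val wE1).flatten ++
    ((List.replicate z.2.2.val wE2).flatten ++ wP 1 k))

theorem cover_facts : ∀ (i : Fin 2) (s : T3), InT s → ∃ k : Fin 4, act (run 0 0 start (wP i k)).2 = s := by
  have key : ∀ (i : Fin 2) (p q u : U), InT (p, q, u) → ∃ k : Fin 4, act (run 0 0 start (wP i k)).2 = (p, q, u) := by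
    decide +kernel
  exact fun i s h => key i s.1 s.2.1 s.2.2 h

theorem sol_facts : ∀ (k : Fin 4) (z : V4), InX z →
    run 0 0 start (wR z k ++ wR z k) = start →
    run 0 0 start ([3] ++ wR z k ++ [3]) = run 0 0 start ([2] ++ wR z k ++ [2, 2]) →
    run 0 0 start (wR z k ++ ([2] ++ wR z k ++ [2, 2])) = run 0 0 start (([2] ++ wR z k ++ [2, 2]) ++ wR z k) →
    (run 0 0 start (wR z k)).2 = (0, 0, none) ∧
      (run 0 0 start (wR z k)).1 + (run 0 0 start (wR z k)).1 = 0 := by
  decide +kernel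

theorem cent_f : ∀ τ : Tl, (act τ).1 = (1, 0, 0) →
    (∀ a : U, comb (act τ) (comb (act (0, 1, none)) a) = comb (act (0, 1, none)) (comb (act τ) a)) →
      τ.1 = 0 ∧ τ.2.2 = none := by
  decide +kernel

theorem X_form : ∀ z : V4, InX z → ∃ (i : Fin 4) (j l : Fin 2),
    z = (i, ⟨2 * j.val, by omega⟩, ⟨2 * l.val, by omega⟩) := by
  decide +kernel

theorem fix_fV : ∀ v : V4, fV v = v → InX v := by decide +kernel

theorem out_facts : ¬ InT (act (0, 0, some 0)) ∧ ¬ InT (act (0, 1, none)) ∧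
    ¬ InX (0, 1, 1) ∧ ¬ InX (fV (0, 1, 1) + -(0, 1, 1)) ∧ InX ((0, 1, 1) + (0, 1, 1)) ∧
    rV (0, 1, 1) = (0, 1, 1) := by
  decide +kernel

variable {G : Type*} [Group G] [Finite G] {t c d f r : G} {H R M W V : Subgroup G}
  (g : Gens t H R M W V c d f) (p : Pre c d f r 0 0) (rM : r ∈ M)

include g p rM

omit rM in
theorem rr_one : r * r = 1 := by
  rw [p.rr, show ((2 * 0, 0, 0) : V4) = 0 by decide, g.wd.nf_zero]

omit rM in
theorem f_val : val c d f r [2, 2] = f⁻¹ := by
  simp only [val, lt, List.map_cons, List.map_nil, List.prod_cons, List.prod_nil, mul_one]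
  exact eq_inv_of_mul_eq_one_left (by rw [← g.f3, pow_succ, pow_two]; simp [mul_assoc])

omit rM in
theorem conj_f_val (u : List (Fin 4)) : val c d f r ([2] ++ u ++ [2, 2]) = f * val c d f r u * f⁻¹ := by
  rw [val_append, val_append, f_val g p, show val c d f r [2] = f by simp [val, lt]]

omit rM in
theorem wP_mem {i : Fin 2} (hi : val c d f r (wA i 0) ∈ R) (k : Fin 4) : val c d f r (wP i k) ∈ R := by
  have hf : val c d f r ([2] ++ wA i 0 ++ [2, 2]) ∈ R := by
    rw [conj_f_val g p]; exact conj_mem_R g g.fH hi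
  fin_cases k
  · show val c d f r [] ∈ R
    simp [val]
  · exact hi
  · exact hf
  · show val c d f r (wA i 0 ++ ([2] ++ wA i 0 ++ [2, 2])) ∈ R
    rw [val_append]; exact mul_mem hi hf

theorem R_decomp {i : Fin 2} (hi : val c d f r (wA i 0) ∈ R) {x : G} (hx : x ∈ R) :
    ∃ k z, InX z ∧ x = nfW c d z * val c d f r (wP i k) := by
  obtain ⟨s, -, hs⟩ := g.acts_exists (g.R_le_M hx)
  obtain ⟨k, hk⟩ := cover_facts i s (T_of_mem g hx hs)
  obtain ⟨z, hz⟩ := exists_shift g p rM (g.R_le_M hx) (s := run 0 0 start (wP i k)) (hk.symm ▸ hs)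
  rw [← val_ev p] at hz
  refine ⟨k, z, X_of_mem g ?_, hz⟩
  have e : nfW c d z = x * (val c d f r (wP i k))⁻¹ := by rw [hz, mul_inv_cancel_right]
  rw [e]
  exact mul_mem hx (inv_mem (wP_mem g p hi k))

theorem val_wR (z : V4) (k : Fin 4) : val c d f r (wR z k) = nfW c d z * val c d f r (wP 1 k) := by
  obtain ⟨v1, v2⟩ := val_e1 (c := c) (d := d) (f := f) (r := r) g.wd.d7
  have r1 : ∀ (w : List (Fin 4)) (n : ℕ),
      val c d f r (List.replicate n w).flatten = val c d f r w ^ n := fun w n => by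
    induction n with
    | zero => simp [val]
    | succ n ih => rw [List.replicate_succ, List.flatten_cons, val_append, ih, pow_succ']
  rw [wR, val_append, val_append, val_append, r1, r1, v1, v2]
  simp [val, lt, nfW, mul_assoc]

theorem mem_of_T {s : St} (h : ev c d f r s ∈ R) : InT (act s.2) := T_of_mem g h (acts_ev p s)

/-- The case of the twisted element does not occur. -/
theorem kill (hi : val c d f r (wA 1 0) ∈ R) : False := by
  obtain ⟨π, hπ, hker⟩ := g.quot
  obtain ⟨o1, o2, o3, o4, o5, o6⟩ := out_facts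
  have fev : ev c d f r (0, 0, 1, none) = f := by
    simp [ev, g.wd.nf_zero]
  have rev : ev c d f r (0, 0, 0, some 0) = r := by
    simp [ev, g.wd.nf_zero]
  have hfR : f ∉ R := fun e => o2 (mem_of_T g p rM (s := (0, 0, 1, none)) (by rwa [fev]))
  have hrR : r ∉ R := fun e => o1 (mem_of_T g p rM (s := (0, 0, 0, some 0)) (by rwa [rev]))
  set w : G := nfW c d (0, 1, 1) with hw
  have hwH : w ∈ H := by
    rw [g.hH, mem_centralizer_singleton_iff]
    exact g.W_comm _ (g.nf_mem _) _ ((g.V_iff _).1 g.tV).1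
  have er : r⁻¹ = r := inv_eq_of_mul_eq_one_right (rr_one g p)
  have hfw : f * w * f⁻¹ = nfW c d (fV (0, 1, 1)) := g.conj_f _
  obtain ⟨h, hH, hnR, hhf, hhh, hrh, -⟩ := exists_over g.R_le g.card_R π hπ hker g.fH (r_mem_H g p) hwH
    g.f3 hfR (by rw [rr_one g p]; exact one_mem _) hrR (by rw [p.rf, inv_mul_cancel]; exact one_mem _)
    (by rw [hw, g.wd.nf_mul]; exact X_mem g o5) (fun e => o3 (X_of_mem g e))
    (by rw [hw, p.conj_r, o6, mul_inv_cancel]; exact one_mem _)
    (fun e => o1 (mem_of_T g p rM (s := ((0, 1, 1), 0, 0, some 0)) (by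
      rw [show ev c d f r ((0, 1, 1), 0, 0, some 0) = w * r by simp [ev, hw]]
      rwa [er] at e)))
    (by
      rw [hfw, hw, g.wd.nf_mul, ← g.wd.nf_neg, g.wd.nf_mul, ← g.wd.nf_neg, g.wd.nf_mul]
      simp only [add_neg_cancel_comm, add_neg_cancel]
      rw [g.wd.nf_zero]; exact one_mem _)
    (fun e => o4 (X_of_mem g (by rw [hfw, hw, ← g.wd.nf_neg, g.wd.nf_mul] at e; exact e)))
  have hhfi : h * f = f * h := mul_inv_eq_iff_eq_mul.1 hhf
  -- the commutator with `r` is central
  set k0 : G := h * r * h⁻¹ * r⁻¹ with hk0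
  have fk : f * k0 * f⁻¹ = k0 := by
    have frf : f * r = r * f⁻¹ := by
      have e := p.rf
      calc f * r = r * (r * f * r⁻¹) := by rw [show r * (r * f * r⁻¹) = r * r * f * r⁻¹ by group, rr_one g p, one_mul, er]
        _ = r * f⁻¹ := by rw [e]
    have hfi : f⁻¹ * h⁻¹ = h⁻¹ * f⁻¹ := by rw [← mul_inv_rev, ← mul_inv_rev, hhfi]
    calc f * k0 * f⁻¹ = (f * h) * r * h⁻¹ * (r⁻¹ * f⁻¹) := by rw [hk0]; group
      _ = h * (f * r) * h⁻¹ * (f * r)⁻¹ := by rw [← hhfi]; group
      _ = h * r * (f⁻¹ * h⁻¹) * (r * f⁻¹)⁻¹ := by rw [frf]; group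
      _ = k0 := by rw [hfi, hk0]; group
  obtain ⟨k, z, hz, hk⟩ := R_decomp g p rM hi hrh
  have kc : ∀ x ∈ R, k0 * x = x * k0 := by
    have kf : ∀ (k : Fin 4) (z : V4), InX z → run 0 0 start ([2] ++ wR z k ++ [2, 2]) = run 0 0 start (wR z k) →
        (run 0 0 start (wR z k)).2 = (0, 0, none) ∧ (run 0 0 start (wR z k)).1.2 = (0, 0) := by
      decide +kernel
    obtain ⟨h2, h1⟩ := kf k z hz ((val_iff g p _ _).1 (by
      rw [conj_f_val g p, val_wR g p rM, ← hk]; exact fk))
    have e : k0 = c ^ ((run 0 0 start (wR z k)).1.1 : ℕ) := by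
      rw [hk, ← val_wR g p rM, val_ev p]
      have key : ∀ s : St, s.2 = (0, 0, none) → s.1.2 = (0, 0) → ev c d f r s = c ^ (s.1.1 : ℕ) := by
        rintro ⟨⟨a, b⟩, τ⟩ rfl hb
        obtain rfl : b = (0, 0) := hb
        simp [ev, nfW]
      exact key _ h2 h1
    intro x hx
    rw [e]
    exact ((show Commute x c from g.c_cen x hx).pow_right _).eq.symm
  -- the image of an involution
  set v1 : G := nfW c d (0, 2, 0) with hv1
  set P : G := h * v1 * h⁻¹ with hP
  have v1V : v1 ∈ V := by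
    have := g.nu_mem (0, 1, 0)
    rwa [nu, show dbl (0, 1, 0) = ((0, 2, 0) : V4) by decide] at this
  have hPR : P ∈ R := conj_mem_R g hH (g.VR v1V)
  have v12 : v1 * v1 = 1 := ((g.V_iff _).1 v1V).2
  have fPf : f * P * f⁻¹ = h * nfW c d (0, 0, 2) * h⁻¹ := by
    calc f * P * f⁻¹ = (f * h) * v1 * (f * h)⁻¹ := by rw [hP]; group
      _ = h * (f * v1 * f⁻¹) * h⁻¹ := by rw [← hhfi]; group
      _ = _ := by rw [hv1, g.conj_f, show fV (0, 2, 0) = ((0, 0, 2) : V4) by decide]
  have rPr : r * P * r⁻¹ = f * P * f⁻¹ := by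
    have e1 : r * P * r⁻¹ = k0⁻¹ * (h * (r * v1 * r⁻¹) * h⁻¹) * k0 := by rw [hP, hk0]; group
    rw [e1, hv1, p.conj_r, show rV (0, 2, 0) = ((0, 0, 2) : V4) by decide, ← fPf, mul_assoc,
      ← kc _ (conj_mem_R g g.fH hPR), inv_mul_cancel_left]
  have Pcomm : P * (f * P * f⁻¹) = f * P * f⁻¹ * P := by
    rw [fPf, hP]
    calc h * v1 * h⁻¹ * (h * nfW c d (0, 0, 2) * h⁻¹) = h * (v1 * nfW c d (0, 0, 2)) * h⁻¹ := by group
      _ = h * (nfW c d (0, 0, 2) * v1) * h⁻¹ := by rw [g.W_comm _ (g.nf_mem _) _ (g.nf_mem _)]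
      _ = _ := by group
  obtain ⟨k', z', hz', hk'⟩ := R_decomp g p rM hi hPR
  have hval : val c d f r (wR z' k') = P := by rw [val_wR g p rM, ← hk']
  obtain ⟨q1, q2⟩ := sol_facts k' z' hz'
    ((val_iff g p _ []).1 (by
      rw [val_append, hval, hP]
      calc h * v1 * h⁻¹ * (h * v1 * h⁻¹) = h * (v1 * v1) * h⁻¹ := by group
        _ = _ := by rw [v12]; simp [val]))
    ((val_iff g p _ _).1 (by
      rw [conj_f_val g p, val_append, val_append, hval, show val c d f r [3] = r by simp [val, lt]]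
      conv_lhs => arg 2; rw [← er]
      exact rPr))
    ((val_iff g p _ _).1 (by rw [val_append, val_append _ _ _ _ _ (wR z' k'), conj_f_val g p, hval]; exact Pcomm))
  have hPV : P ∈ V := by
    rw [← hval, val_ev p]
    have key : ∀ s : St, s.2 = (0, 0, none) → s.1 + s.1 = 0 → ev c d f r s ∈ V := by
      rintro ⟨v, τ⟩ rfl hv
      rw [← dbl_surj v hv]
      have := g.nu_mem (hlf v)
      simpa [ev, nu] using this
    exact key _ q1 q2
  -- `h` normalises `V`
  have hconjV : ∀ v ∈ V, h * v * h⁻¹ ∈ V := by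
    intro v hv
    obtain ⟨a, rfl⟩ := g.nu_surj hv
    have ht : h * nu c d (1, 0, 0) * h⁻¹ ∈ V := by
      rw [g.nu_t]
      have := mem_centralizer_iff.1 (g.hH ▸ hH : h ∈ centralizer ({t} : Set G)) t rfl
      rw [← this, mul_inv_cancel_right]; exact g.tV
    have h1 : h * nu c d (0, 1, 0) * h⁻¹ ∈ V := by
      rw [nu, show dbl (0, 1, 0) = ((0, 2, 0) : V4) by decide]; exact hPV
    have h2 : h * nu c d (0, 0, 1) * h⁻¹ ∈ V := by
      rw [nu, show dbl (0, 0, 1) = ((0, 0, 2) : V4) by decide, ← fPf]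
      exact g.conjV g.fM hPV
    conv => arg 2; rw [← comb_std a, g.nu_comb]
    rw [show ∀ A B C : G, h * (A * B * C) * h⁻¹ = (h * A * h⁻¹) * (h * B * h⁻¹) * (h * C * h⁻¹) from
      fun A B C => by group, ← conj_pow, ← conj_pow, ← conj_pow]
    exact mul_mem (mul_mem (pow_mem ht _) (pow_mem h1 _)) (pow_mem h2 _)
  have hM : h ∈ M := by
    rw [g.hM, mem_normalizer_iff]
    intro y
    refine ⟨fun hy => hconjV y hy, fun hy => ?_⟩
    let φ : V → V := fun v => ⟨h * v * h⁻¹, hconjV v v.2⟩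
    have hφ : Function.Surjective φ := Finite.injective_iff_surjective.1 fun a b e => Subtype.ext (by
      have := congrArg Subtype.val e
      exact mul_left_cancel (mul_right_cancel this))
    obtain ⟨v, hv⟩ := hφ ⟨_, hy⟩
    have := congrArg Subtype.val hv
    rw [← mul_left_cancel (mul_right_cancel this)]
    exact v.2
  -- its normal form
  obtain ⟨⟨v, i, j, q⟩, rfl⟩ := ev_surj g p rM hM
  have A := acts_ev p (v, i, j, q)
  have Af := acts_ev p (0, 0, 1, none)
  rw [fev] at Af
  have a0 : (act (i, j, q)).1 = (1, 0, 0) := by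
    have e := A (1, 0, 0)
    rw [g.nu_t] at e
    have := mem_centralizer_iff.1 (g.hH ▸ hH : _ ∈ centralizer ({t} : Set G)) t rfl
    rw [← this, mul_inv_cancel_right, ← g.nu_t] at e
    have e' := g.nu_inj e
    simpa [comb] using e'.symm
  have acomm : ∀ a : U, comb (act (i, j, q)) (comb (act (0, 1, none)) a) =
      comb (act (0, 1, none)) (comb (act (i, j, q)) a) := fun a => g.nu_inj (by
    rw [← A, ← Af a, ← Af, ← A a]
    generalize ev c d f r (v, i, j, q) = e at hhfi ⊢
    calc e * (f * nu c d a * f⁻¹) * e⁻¹ = (e * f) * nu c d a * (e * f)⁻¹ := by group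
      _ = _ := by rw [hhfi]; group)
  obtain ⟨hi0, hq0⟩ := cent_f (i, j, q) a0 acomm
  simp only at hi0 hq0
  subst hi0 hq0
  simp only [ev, Fin.val_zero, pow_zero, mul_one] at hhf hhh hnR
  have hfv : fV v = v := g.nf_inj (by
    rw [← g.conj_f]
    have e : nfW c d v * f * (nfW c d v)⁻¹ = f := by
      conv_rhs => rw [← hhf]
      group
    have e' : nfW c d v * f = f * nfW c d v := mul_inv_eq_iff_eq_mul.1 e
    rw [← e', mul_inv_cancel_right])
  have hvR : nfW c d v ∈ R := X_mem g (fix_fV v hfv)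
  have hj2 : f ^ (j : ℕ) * f ^ (j : ℕ) ∈ R := by
    have cm : f ^ (j : ℕ) * nfW c d v = nfW c d v * f ^ (j : ℕ) := by
      have : Commute f (nfW c d v) := by
        show f * nfW c d v = nfW c d v * f
        have e := g.conj_f v
        rw [hfv] at e
        exact mul_inv_eq_iff_eq_mul.1 e
      exact (this.pow_left _).eq
    have e : nfW c d v * f ^ (j : ℕ) * (nfW c d v * f ^ (j : ℕ)) =
        nfW c d v * nfW c d v * (f ^ (j : ℕ) * f ^ (j : ℕ)) := by
      rw [show nfW c d v * f ^ (j : ℕ) * (nfW c d v * f ^ (j : ℕ)) =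
        nfW c d v * (f ^ (j : ℕ) * nfW c d v) * f ^ (j : ℕ) by group, cm]; group
    rw [e] at hhh
    exact (R.mul_mem_cancel_left (mul_mem hvR hvR)).1 hhh
  have hj0 : j = 0 := by
    have f4 : f ^ 4 = f := by rw [pow_succ, g.f3, one_mul]
    by_contra hj
    have hj' : j = 1 ∨ j = 2 := by
      have key : ∀ a : Fin 3, a = 0 ∨ a = 1 ∨ a = 2 := by decide
      exact (key j).resolve_left hj
    rcases hj' with rfl | rfl
    · apply hfR
      have := mul_mem hj2 hj2
      rwa [show ((1 : Fin 3) : ℕ) = 1 from rfl, pow_one, show f * f * (f * f) = f ^ 4 by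
        simp [pow_succ, mul_assoc], f4] at this
    · apply hfR
      rwa [show ((2 : Fin 3) : ℕ) = 2 from rfl, ← pow_add, f4] at hj2
  subst hj0
  exact hnR (by simpa using hvR)

omit p rM in
/-- The standard generators. -/
theorem exists_loc (ht : orderOf t = 2) : ∃ f r, ∃ d : G, Loc H R M c d f r := by
  obtain ⟨r, rM, p, i, hi⟩ := exists_good g
  obtain rfl : i = 0 := by
    have key : ∀ i : Fin 2, i = 0 ∨ i = 1 := by decide
    exact (key i).resolve_right fun e => kill g p rM (e ▸ hi)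
  refine ⟨f, r, d, ?_⟩
  have er : r⁻¹ = r := inv_eq_of_mul_eq_one_right (rr_one g p)
  have v1 : val c d f r (wA 0 0) = a1 d r := by
    have h1 : d * d * d * d = d⁻¹ * d⁻¹ * d⁻¹ := by
      rw [← mul_inv_rev, ← mul_inv_rev]
      exact eq_inv_of_mul_eq_one_left (by rw [← g.wd.d7]; simp only [pow_succ, pow_zero, one_mul, mul_assoc])
    have e : a1 d r = d * d * d * r * (d * d * d * d) := by rw [h1, a1]; group
    rw [e]; simp [val, wA, lt, mul_assoc]
  have vf : val c d f r ([2] ++ wA 0 0 ++ [2, 2]) = f * a1 d r * f⁻¹ := by rw [conj_f_val g p, v1]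
  have z0 : ∀ u : V4, u = 0 → nfW c d u = 1 := fun u e => by rw [e, g.wd.nf_zero]
  have hsq : ∀ (u : V4), nfW c d u * nfW c d u = nfW c d (u + u) := fun u => g.wd.nf_mul u u
  refine {
    rel := ⟨g.wd.c4, g.wd.cc, g.wd.cc2, g.wd.poly, g.wd.d7, g.f3, g.fd, g.fc, rr_one g p, ?_, ?_, ?_, ?_⟩
    hH := by rw [g.cc]; exact g.hH
    order_t := by rw [g.cc]; exact ht
    R_eq := ?_
    card_R := g.card_R
    card_H := g.card_H
    normal_R := g.R_norm
    quot := g.quot
    M_eq := ?_
    card_M := g.card_M }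
  · have := p.rc; rwa [er] at this
  · have := p.re; rwa [er] at this
  · have := p.rf; rwa [er] at this
  · rw [p.rd]; exact g.wd.nf_zero
  · apply le_antisymm
    · intro x hx
      obtain ⟨k, z, hz, rfl⟩ := R_decomp g p rM hi hx
      have hgen : ∀ y ∈ rSet c d f r, y ∈ closure (rSet c d f r) := fun y hy => subset_closure hy
      refine mul_mem ?_ ?_
      · obtain ⟨i, j, l, rfl⟩ := X_form z hz
        simp only [nfW]
        rw [pow_mul, pow_mul, pow_two, pow_two]
        exact mul_mem (mul_mem (pow_mem (hgen _ (by simp [rSet])) _) (pow_mem (hgen _ (by simp [rSet])) _))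
          (pow_mem (hgen _ (by simp [rSet])) _)
      · fin_cases k
        · show val c d f r [] ∈ _
          simp [val]
        · show val c d f r (wA 0 0) ∈ _
          rw [v1]; exact hgen _ (by simp [rSet])
        · show val c d f r ([2] ++ wA 0 0 ++ [2, 2]) ∈ _
          rw [vf]; exact hgen _ (by simp [rSet])
        · show val c d f r (wA 0 0 ++ ([2] ++ wA 0 0 ++ [2, 2])) ∈ _
          rw [val_append, v1, vf]; exact mul_mem (hgen _ (by simp [rSet])) (hgen _ (by simp [rSet]))
    · rw [closure_le]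
      intro y hy
      simp only [rSet, Set.mem_insert_iff, Set.mem_singleton_iff] at hy
      rcases hy with rfl | rfl | rfl | rfl | rfl
      · exact g.cR
      · have := X_mem g (v := (0, 2, 0)) (by decide)
        simpa [nfW, pow_two] using this
      · have := X_mem g (v := (0, 0, 2)) (by decide)
        simpa [nfW, pow_two] using this
      · exact v1 ▸ hi
      · exact conj_mem_R g g.fH (v1 ▸ hi)
  · apply le_antisymm
    · intro x hx
      obtain ⟨⟨⟨a, b, e⟩, i, j, q⟩, rfl⟩ := ev_surj g p rM hx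
      have hgen : ∀ y ∈ ({c, d, f, r} : Set G), y ∈ closure ({c, d, f, r} : Set G) := fun y hy => subset_closure hy
      have hc := hgen c (by simp)
      have hd := hgen d (by simp)
      have he1 : e1 c d ∈ closure ({c, d, f, r} : Set G) := mul_mem (mul_mem hd hc) (inv_mem hd)
      have he2 : e2 c d ∈ closure ({c, d, f, r} : Set G) :=
        mul_mem (mul_mem (mul_mem (mul_mem hd hd) hc) (inv_mem hd)) (inv_mem hd)
      refine mul_mem (mul_mem (mul_mem (mul_mem (mul_mem (pow_mem hc _) (pow_mem he1 _)) (pow_mem he2 _))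
        (pow_mem hd _)) (pow_mem (hgen f (by simp)) _)) ?_
      rcases q with _ | q
      · exact one_mem _
      · exact mul_mem (hgen r (by simp)) (pow_mem hd _)
    · rw [closure_le]
      intro y hy
      simp only [Set.mem_insert_iff, Set.mem_singleton_iff] at hy
      rcases hy with rfl | rfl | rfl | rfl
      exacts [g.W_le g.cW, g.dM, g.fM, rM]

end Cfsg.Agent.HSRecog.MSide
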