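import Cfsg.Agent.HSRecog.MSide.Tail

/-!
The elements of `R` in normal forms.
-/

set_option autoImplicit false
set_option maxRecDepth 100000
set_option linter.all false

namespace Cfsg.Agent.HSRecog.MSide

open Subgroup Cfsg.Agent.HSRecog Cfsg.Agent.HSRecog.Machine
open Cfsg.Agent.HSRecog.MRel (nfW)

/-- The coordinates of `R ∩ W`. -/
def InX (v : V4) : Prop := v.2.1.val % 2 = 0 ∧ v.2.2.val % 2 = 0

instance (v : V4) : Decidable (InX v) := inferInstanceAs (Decidable (_ ∧ _))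

/-- The possible actions of elements of `R`. -/
def InT (s : T3) : Prop :=
  s.1 = (1, 0, 0) ∧ (s.2.1 = (0, 1, 0) ∨ s.2.1 = (1, 1, 0)) ∧ (s.2.2 = (0, 0, 1) ∨ s.2.2 = (1, 0, 1))

instance (s : T3) : Decidable (InT s) := inferInstanceAs (Decidable (_ ∧ _))

/-- The word of `e1`. -/
def wE1 : List (Fin 4) := [1, 0, 1, 1, 1, 1, 1, 1]

/-- The word of `e2`. -/
def wE2 : List (Fin 4) := [1, 1, 0, 1, 1, 1, 1, 1]

/-- The word of a candidate in `R`. -/
def wA (i j : Fin 2) : List (Fin 4) :=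
  (List.replicate i.val wE1).flatten ++ (List.replicate j.val wE2).flatten ++ [1, 1, 1, 3, 1, 1, 1, 1]

/-- The same with `r` replaced by `r c`. -/
def wA' (i : Fin 2) : List (Fin 4) :=
  (List.replicate i.val wE1).flatten ++ [1, 1, 1, 3, 0, 1, 1, 1, 1]

/-- The action of the candidates. -/
def sA : T3 := act (run 0 0 start (wA 0 0)).2

theorem sA_facts : InT sA ∧ ∀ b : Fin 4, act (run 0 b start (wA 0 0)).2 = sA := by decide +kernel

theorem card_three : Fintype.card {s : T3 // InT s ∧ s ≠ sA} = 3 := by decide +kernel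

theorem card_X : Fintype.card {v : V4 // InX v} = 16 := by decide +kernel

theorem X_split : ∀ v : V4, ∃ i j : Fin 2, InX (v + -(0, ⟨i.val, by omega⟩, ⟨j.val, by omega⟩)) := by
  decide +kernel

theorem sq_facts : ∀ (b : Fin 4) (i j : Fin 2), (run 0 b start (wA i j ++ wA i j)).2 = (0, 0, none) →
    (run 0 b start (wA i j ++ wA i j)).1.2 = (0, 0) → j = 0 := by
  decide +kernel

theorem fr_facts : ∀ (b : Fin 4) (i : Fin 2),
    (run 0 b start ([2] ++ wA i 0 ++ [2, 2] ++ [3] ++ wA i 0 ++ [3])).2 = (0, 0, none) ∧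
    (InX (run 0 b start ([2] ++ wA i 0 ++ [2, 2] ++ [3] ++ wA i 0 ++ [3])).1 → b = 0 ∨ b = 2) := by
  decide +kernel

theorem flip_facts : run 0 2 start [3, 0, 1, 3, 0, 1, 3, 0, 1] = start ∧
    ∀ i : Fin 2, (run 0 2 start (wA' (1 - i))).2 = (run 0 2 start (wA i 0)).2 ∧
      InX ((run 0 2 start (wA' (1 - i))).1 + -(run 0 2 start (wA i 0)).1) := by
  decide +kernel

variable {G : Type*} [Group G] [Finite G] {t c d f r : G} {H R M W V : Subgroup G} {ε b : Fin 4}
  (g : Gens t H R M W V c d f)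

theorem val_e1 : ∀ {G : Type*} [Group G] {c d f r : G}, d ^ 7 = 1 → val c d f r wE1 = e1 c d ∧
    val c d f r wE2 = e2 c d := by
  intro G _ c d f r h7
  have h1 : d⁻¹ = d * (d * (d * (d * (d * d)))) := inv_eq_of_mul_eq_one_right (by
    rw [← h7]; simp only [pow_succ, pow_zero, one_mul, mul_assoc])
  have h2 : d⁻¹ * d⁻¹ = d * (d * (d * (d * d))) := by
    rw [← mul_inv_rev]
    refine inv_eq_of_mul_eq_one_right ?_
    rw [← h7]; simp only [pow_succ, pow_zero, one_mul, mul_assoc]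
  constructor
  · simp [val, wE1, lt, e1, h1, mul_assoc]
  · simp only [e2, mul_assoc, h2]
    simp [val, wE2, lt, mul_assoc]

include g

theorem X_mem {v : V4} (hv : InX v) : nfW c d v ∈ R := by
  have key : ∀ v : V4, InX v → ∃ a : U, ∃ k : Fin 4, v = dbl a + (k.val : ℕ) • ((1, 0, 0) : V4) := by
    decide +kernel
  obtain ⟨a, k, rfl⟩ := key v hv
  rw [← g.wd.nf_mul, g.wd.nf_nsmul]
  refine mul_mem (g.VR (g.nu_mem a)) (pow_mem ?_ _)
  have := g.cR
  simpa [nfW] using this

theorem X_of_mem {v : V4} (hv : nfW c d v ∈ R) : InX v := by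
  obtain ⟨w, hw, n, hn⟩ := g.RW _ hv (g.nf_mem v)
  obtain ⟨a, rfl⟩ := g.nu_surj hw
  have hc : nfW c d (1, 0, 0) = c := by simp [nfW]
  rw [nu, show c ^ n = nfW c d (n • (1, 0, 0)) by rw [g.wd.nf_nsmul, hc], g.wd.nf_mul] at hn
  rw [g.nf_inj hn]
  have key : ∀ (a : U) (u : V4), u.2 = (0, 0) → InX (dbl a + u) := by decide +kernel
  exact key a _ (by simp)

theorem T_of_mem {x : G} (hx : x ∈ R) {s : T3} (hs : Acts c d x s) : InT s := by
  have hxt : nu c d (comb s (1, 0, 0)) = t := by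
    rw [← hs, g.nu_t]
    have := mem_centralizer_iff.1 (g.hH ▸ g.R_le hx : x ∈ centralizer ({t} : Set G)) t rfl
    rw [← this, mul_inv_cancel_right]
  have h0 : s.1 = (1, 0, 0) := by
    rw [← g.nu_t] at hxt
    simpa [comb] using g.nu_inj hxt
  have move : ∀ a, comb s a = a ∨ comb s a = (1, 0, 0) + a := fun a => by
    rcases g.commR x hx _ (g.VR (g.nu_mem a)) with e | e
    · left; apply g.nu_inj; rw [← hs a]; exact mul_inv_eq_one.1 e
    · right; apply g.nu_inj; rw [← hs a, g.nu_add, g.nu_t, ← e]; group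
  refine ⟨h0, ?_, ?_⟩
  · simpa [comb] using move (0, 1, 0)
  · simpa [comb] using move (0, 0, 1)

theorem R_shift (p : Pre c d f r ε b) (rM : r ∈ M) {x y : G} (hx : x ∈ R) (hy : y ∈ R) {s : T3}
    (hxs : Acts c d x s) (hys : Acts c d y s) : ∃ v, InX v ∧ x = y * nfW c d v := by
  obtain ⟨v, hv⟩ := g.nf_surj _ (g.acts_same (g.R_le_M hx) (g.R_le_M hy) hxs hys)
  exact ⟨v, X_of_mem g (hv ▸ mul_mem (inv_mem hy) hx), by rw [hv, mul_inv_cancel_left]⟩

theorem exists_sA (p : Pre c d f r ε b) (rM : r ∈ M) : ∃ x ∈ R, Acts c d x sA := by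
  classical
  by_contra hno
  have hex : ∀ x : R, ∃ s : {s : T3 // InT s ∧ s ≠ sA}, Acts c d (x : G) s.1 := fun x => by
    obtain ⟨s, h1, h2⟩ := g.acts_exists (g.R_le_M x.2)
    exact ⟨⟨s, T_of_mem g x.2 h2, fun e => hno ⟨x, x.2, e ▸ h2⟩⟩, h2⟩
  choose σ hσ using hex
  let rep : {s : T3 // InT s ∧ s ≠ sA} → R := fun s =>
    if h : ∃ y : R, Acts c d (y : G) s.1 then h.choose else 1
  have hrep : ∀ x : R, Acts c d (rep (σ x) : G) (σ x).1 := fun x => by
    have h : ∃ y : R, Acts c d (y : G) (σ x).1 := ⟨x, hσ x⟩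
    simp only [rep, dif_pos h]
    exact h.choose_spec
  have hv : ∀ x : R, ∃ v : {v : V4 // InX v}, (x : G) = (rep (σ x) : G) * nfW c d v.1 := fun x => by
    obtain ⟨v, h1, h2⟩ := R_shift g p rM x.2 (rep (σ x)).2 (hσ x) (hrep x)
    exact ⟨⟨v, h1⟩, h2⟩
  choose τ hτ using hv
  have hF : Function.Injective fun x => (σ x, τ x) := by
    intro x y e
    obtain ⟨e1, e2⟩ := Prod.mk.injEq _ _ _ _ ▸ e
    exact Subtype.ext (by rw [hτ x, hτ y, e1, e2])
  have := Nat.card_le_card_of_injective _ hF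
  rw [g.card_R, Nat.card_prod, Nat.card_eq_fintype_card, Nat.card_eq_fintype_card, card_three, card_X] at this
  omega

theorem conj_mem_R {x y : G} (hx : x ∈ H) (hy : y ∈ R) : x * y * x⁻¹ ∈ R :=
  (mem_normalizer_iff.1 (g.R_norm hx) y).1 hy

theorem r_mem_H (p : Pre c d f r ε b) : r ∈ H := by
  have e := p.conj_r (2, 0, 0)
  rw [show rV (2, 0, 0) = ((2, 0, 0) : V4) by decide, show nfW c d (2, 0, 0) = t by
    rw [← g.cc]; simp [nfW, pow_two]] at e
  rw [g.hH, mem_centralizer_singleton_iff]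
  exact mul_inv_eq_iff_eq_mul.1 e

theorem exists_good : ∃ r, r ∈ M ∧ Pre c d f r 0 0 ∧ ∃ i, val c d f r (wA i 0) ∈ R := by
  obtain ⟨r, ε, b, p, rM, hε⟩ := g.exists_pre
  obtain rfl := g.eps_zero p hε
  obtain ⟨x, hxR, hx⟩ := exists_sA g p rM
  obtain ⟨z, rfl⟩ := exists_shift g p rM (g.R_le_M hxR) (s := run 0 b start (wA 0 0))
    (by rw [sA_facts.2 b]; exact hx)
  obtain ⟨i, j, hij⟩ := X_split z
  obtain ⟨v1, v2⟩ := val_e1 (c := c) (d := d) (f := f) (r := r) g.wd.d7
  have hA : val c d f r (wA i j) ∈ R := by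
    have e : val c d f r (wA i j) =
        (nfW c d (z + -(0, ⟨i.val, by omega⟩, ⟨j.val, by omega⟩)))⁻¹ * (nfW c d z * val c d f r (wA 0 0)) := by
      rw [← g.wd.nf_neg, ← mul_assoc, g.wd.nf_mul,
        show -(z + -((0 : Fin 4), (⟨i.val, by omega⟩ : Fin 4), (⟨j.val, by omega⟩ : Fin 4))) + z =
          (0, ⟨i.val, by omega⟩, ⟨j.val, by omega⟩) by abel]
      have r1 : ∀ (w : List (Fin 4)) (n : ℕ),
          val c d f r (List.replicate n w).flatten = val c d f r w ^ n := fun w n => by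
        induction n with
        | zero => simp [val]
        | succ n ih => rw [List.replicate_succ, List.flatten_cons, val_append, ih, pow_succ']
      rw [wA, wA, val_append, val_append, val_append, val_append, r1, r1, r1, r1, v1, v2]
      simp [nfW, mul_assoc]
    rw [e]
    refine mul_mem (inv_mem (X_mem g hij)) ?_
    rwa [val_ev p]
  have hj : j = 0 := by
    obtain ⟨n, hn⟩ := (isOfFinOrder_of_finite c).mem_powers_iff_mem_zpowers.2 (g.sqR _ hA)
    have hn' : c ^ n = val c d f r (wA i j) * val c d f r (wA i j) := hn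
    rw [← val_append, val_ev p, show c ^ n = ev c d f r (n • (1, 0, 0), 0, 0, none) by
      simp only [ev, p.nf_nsmul]; simp [nfW]] at hn'
    have e := ev_inj g p hn'
    refine sq_facts b i j (by rw [← e]) ?_
    rw [← e]; simp
  subst hj
  have hb : b = 0 ∨ b = 2 := by
    obtain ⟨f1, f2⟩ := fr_facts b i
    refine f2 (X_of_mem g ?_)
    have eq : nfW c d (run 0 b start ([2] ++ wA i 0 ++ [2, 2] ++ [3] ++ wA i 0 ++ [3])).1 =
        ev c d f r (run 0 b start ([2] ++ wA i 0 ++ [2, 2] ++ [3] ++ wA i 0 ++ [3])) := by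
      have key : ∀ s : St, s.2 = (0, 0, none) → nfW c d s.1 = ev c d f r s := by
        rintro ⟨v, τ⟩ rfl
        simp [ev]
      exact key _ f1
    rw [eq, ← val_ev p, val_append, val_append, val_append, val_append, val_append]
    have ef : val c d f r [2, 2] = f⁻¹ := by
      simp only [val, lt, List.map_cons, List.map_nil, List.prod_cons, List.prod_nil, mul_one]
      exact eq_inv_of_mul_eq_one_left (by rw [← g.f3, pow_succ, pow_two]; simp [mul_assoc])
    have er : r⁻¹ = r := inv_eq_of_mul_eq_one_right (by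
      rw [p.rr, show ((2 * 0, 0, 0) : V4) = 0 by decide, g.wd.nf_zero])
    rw [ef, show val c d f r [2] = f by simp [val, lt], show val c d f r [3] = r by simp [val, lt],
      show f * val c d f r (wA i 0) * f⁻¹ * r * val c d f r (wA i 0) * r =
        (f * val c d f r (wA i 0) * f⁻¹) * (r * val c d f r (wA i 0) * r⁻¹) by rw [er]; simp [mul_assoc]]
    exact mul_mem (conj_mem_R g g.fH hA) (conj_mem_R g (r_mem_H g p) hA)
  rcases hb with rfl | rfl
  · exact ⟨r, rM, p, i, hA⟩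
  · have hc : nfW c d (1, 0, 0) = c := by simp [nfW]
    have hcW : ∀ v, c * nfW c d v * c⁻¹ = nfW c d v := fun v => by
      rw [g.W_comm _ g.cW _ (g.nf_mem v), mul_inv_cancel_right]
    have hconj : ∀ v, r * c * nfW c d v * (r * c)⁻¹ = r * nfW c d v * r⁻¹ := fun v => by
      rw [show r * c * nfW c d v * (r * c)⁻¹ = r * (c * nfW c d v * c⁻¹) * r⁻¹ by group, hcW]
    refine ⟨r * c, mul_mem rM (g.W_le g.cW), ⟨g.wd, g.f3, g.fd, g.fc, ?_, ?_, ?_, ?_, ?_, ?_⟩, 1 - i, ?_⟩
    · have e := hconj (1, 0, 0)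
      rw [hc] at e; rw [e]; exact p.rc
    · have e := hconj (0, 1, 0)
      have h1 : nfW c d (0, 1, 0) = e1 c d := by simp [nfW]
      rw [h1] at e; rw [e]; exact p.re
    · have e := hconj (0, 0, 1)
      have h1 : nfW c d (0, 0, 1) = e2 c d := by simp [nfW]
      rw [h1] at e; rw [e]; exact p.re2
    · have hcf : c * f * c⁻¹ = f := by
        have h := g.fc
        rw [mul_inv_eq_iff_eq_mul] at h
        rw [← h, mul_inv_cancel_right]
      rw [show r * c * f * (r * c)⁻¹ = r * (c * f * c⁻¹) * r⁻¹ by group, hcf]; exact p.rf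
    · have z0 : nfW c d (2 * 0, 0, 0) = 1 := by
        rw [show ((2 * 0, 0, 0) : V4) = 0 by decide, g.wd.nf_zero]
      rw [z0]
      calc r * c * (r * c) = (r * c * r⁻¹) * (r * r) * c := by group
        _ = 1 := by rw [p.rc, p.rr, z0, mul_one, inv_mul_cancel]
    · have e := (val_iff g p [3, 0, 1, 3, 0, 1, 3, 0, 1] []).2 flip_facts.1
      rw [show ((0, 0, 0) : V4) = 0 from rfl, g.wd.nf_zero]
      refine Eq.trans ?_ e
      simp [val, lt, pow_succ, mul_assoc]
    · obtain ⟨e2, hX⟩ := flip_facts.2 i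
      have e : val c d f (r * c) (wA (1 - i) 0) = val c d f r (wA' (1 - i)) := by
        fin_cases i <;> simp [val, wA, wA', wE1, lt, mul_assoc]
      rw [e, val_ev p]
      have e3 : ev c d f r (run 0 2 start (wA' (1 - i))) =
          nfW c d ((run 0 2 start (wA' (1 - i))).1 + -(run 0 2 start (wA i 0)).1) *
            ev c d f r (run 0 2 start (wA i 0)) := by
        rw [ev_add p, ← e2, neg_add_cancel_right]
      rw [e3, ← val_ev p]
      exact mul_mem (X_mem g hX) hA

end Cfsg.Agent.HSRecog.MSide
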