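import Cfsg.Agent.HSRecog.MSide.GLThree
import Cfsg.Agent.Core.PCore
import Cfsg.Agent.Core.Frattini
import Cfsg.Prelude.Def_Transfer

/-!
First consequences of the two local hypotheses.
-/

set_option autoImplicit false
set_option linter.all false

namespace Cfsg.Agent.HSRecog.MSide

open Subgroup Cfsg
open scoped Pointwise commutatorElement

/-- What is kept of the hypotheses. -/
structure Ground {G : Type*} [Group G] (t : G) (H R M W V : Subgroup G) (c : G) : Prop where
  tne : t ≠ 1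
  t2 : t * t = 1
  hH : H = centralizer ({t} : Set G)
  cR : c ∈ R
  cW : c ∈ W
  cc : c * c = t
  c_cen : ∀ x ∈ R, x * c = c * x
  Z_R : ∀ x ∈ R, (∀ y ∈ R, y * x = x * y) → x ∈ zpowers c
  R_le : R ≤ H
  R_norm : H ≤ normalizer (R : Set G)
  card_R : Nat.card R = 64
  card_H : Nat.card H = 7680
  quot : ∃ π : ↥H →* Equiv.Perm (Fin 5), Function.Surjective π ∧ π.ker = R.subgroupOf H
  sqR : ∀ x ∈ R, x * x ∈ zpowers c
  commR : ∀ x ∈ R, ∀ y ∈ R, x * y * x⁻¹ * y⁻¹ = 1 ∨ x * y * x⁻¹ * y⁻¹ = t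
  hM : M = normalizer (V : Set G)
  R_le_M : R ≤ M
  card_M : Nat.card M = 10752
  W_le : W ≤ M
  W_norm : M ≤ normalizer (W : Set G)
  card_W : Nat.card W = 64
  W_comm : ∀ x ∈ W, ∀ y ∈ W, x * y = y * x
  W4 : ∀ x ∈ W, x ^ 4 = 1
  tV : t ∈ V
  VR : V ≤ R
  V_iff : ∀ x, x ∈ V ↔ x ∈ W ∧ x * x = 1
  card_V : Nat.card V = 8
  V_sq : ∀ v ∈ V, ∃ w ∈ W, w * w = v
  fix_iff : ∀ x ∈ M, (∀ v ∈ V, x * v * x⁻¹ = v) ↔ x ∈ W
  RW : ∀ x, x ∈ R → x ∈ W → ∃ v ∈ V, ∃ n : ℕ, x = v * c ^ n

section Q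

/-- Facts about `4^3`. -/
theorem four_facts : (∀ a : ZMod 4 × ZMod 4 × ZMod 4, a + a + a + a = 0) ∧
    (∀ a : ZMod 4 × ZMod 4 × ZMod 4, a + a = 0 → ∃ b, b + b = a) ∧
    Nat.card {a : ZMod 4 × ZMod 4 × ZMod 4 // a + a = 0} = 8 := by
  refine ⟨by decide +kernel, by decide +kernel, ?_⟩
  rw [Nat.card_eq_fintype_card]
  decide +kernel

end Q

variable {G : Type*} [Group G] [Finite G]

/-- The hypotheses give the ground facts. -/
theorem exists_ground (t : G) (ht : orderOf t = 2) (H : Subgroup G) (hH : H = centralizer ({t} : Set G))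
    (R : Subgroup G) (hR : R = (Cfsg.pCore 2 H).map H.subtype)
    (Cy E : Subgroup G) (hCy : IsCyclic Cy) (hCycard : Nat.card Cy = 4)
    (hCyle : Cy ≤ R ⊓ centralizer (R : Set G))
    (hEle : E ≤ R) (hEex : Cfsg.IsExtraspecial 2 E) (hEcard : Nat.card E = 32)
    (hprod : Cy ⊔ E = R) (hmeet : Cy ⊓ E = E ⊓ centralizer (E : Set G))
    (eH : H ⧸ Cfsg.pCore 2 H ≃* Equiv.Perm (Fin 5))
    (V : Subgroup G) (hVcomm : IsMulCommutative V) (hVexp : ∀ v ∈ V, v ^ 2 = 1) (hVcard : Nat.card V = 8)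
    (hVR : V ≤ R) (M : Subgroup G) (hM : M = normalizer (V : Set G))
    (eOM : Cfsg.pCore 2 M ≃* Multiplicative (ZMod 4 × ZMod 4 × ZMod 4))
    (eM : M ⧸ Cfsg.pCore 2 M ≃* GL (Fin 3) (ZMod 2)) :
    ∃ (W : Subgroup G) (c : G), Ground t H R M W V c := by
  classical
  have : Fact (Nat.Prime 2) := ⟨Nat.prime_two⟩
  obtain ⟨⟨⟨hE2, hfr, hder⟩, hcz⟩⟩ := And.intro hEex trivial
  have t2 : t * t = 1 := by rw [← pow_two, ← ht, pow_orderOf_eq_one]
  have tne : t ≠ 1 := fun e => by rw [e, orderOf_one] at ht; norm_num at ht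
  have RH : R ≤ H := hR ▸ map_subtype_le _
  -- the cyclic part
  obtain ⟨c', hc'⟩ := hCy.exists_generator
  set c : G := (c' : G)
  have Cyeq : Cy = zpowers c := le_antisymm (fun x hx => by
      obtain ⟨n, hn⟩ := hc' ⟨x, hx⟩
      exact ⟨n, congrArg Subtype.val hn⟩) (zpowers_le.2 c'.2)
  have oc : orderOf c = 4 := by rw [← Nat.card_zpowers, ← Cyeq, hCycard]
  have c4 : c ^ 4 = 1 := oc ▸ pow_orderOf_eq_one c
  have ccne : c * c ≠ 1 := fun e => by
    have := orderOf_dvd_of_pow_eq_one (show c ^ 2 = 1 by rw [pow_two, e]); rw [oc] at this; norm_num at this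
  have cR : c ∈ R := (hCyle c'.2).1
  have ccen : ∀ x ∈ R, x * c = c * x := fun x hx => mem_centralizer_iff.1 (hCyle c'.2).2 x hx
  -- the centre of `E`
  have hz : ∀ x ∈ E, (∀ y ∈ E, y * x = x * y) → x = 1 ∨ x = c * c := by
    intro x hx hc
    have hxC : x ∈ Cy := (hmeet ▸ (⟨hx, mem_centralizer_iff.2 hc⟩ : x ∈ E ⊓ centralizer (E : Set G)) :
      x ∈ Cy ⊓ E).1
    have h2 : x * x = 1 := by
      have hxc : (⟨x, hx⟩ : E) ∈ center E := mem_center_iff.2 fun y => Subtype.ext (hc y y.2)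
      have h : (⟨⟨x, hx⟩, hxc⟩ : center E) ^ Nat.card (center E) = 1 := pow_card_eq_one'
      rw [hcz] at h
      simpa [pow_two] using congrArg (fun y : center E => ((y : E) : G)) h
    rw [Cyeq] at hxC
    obtain ⟨n, hn⟩ := mem_zpowers_iff.1 hxC
    have hn4 : x = c ^ (n % 4) := by
      rw [← hn, show c ^ n = c ^ (n % 4) from by
        conv_lhs => rw [← Int.mul_ediv_add_emod n 4, zpow_add, zpow_mul, show c ^ (4 : ℤ) = 1 by exact_mod_cast c4,
          one_zpow, one_mul]]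
    have h0 := Int.emod_nonneg n (show (4 : ℤ) ≠ 0 by norm_num)
    have h4 := Int.emod_lt_of_pos n (show (0 : ℤ) < 4 by norm_num)
    interval_cases hk : n % 4
    · exact Or.inl (by simpa using hn4)
    · rw [hn4, zpow_one] at h2; exact absurd h2 ccne
    · exact Or.inr (by rw [hn4, zpow_two])
    · exfalso
      rw [hn4] at h2
      apply ccne
      calc c * c = c ^ (3 : ℤ) * c ^ (3 : ℤ) * (c ^ (4 : ℕ))⁻¹ := by
            rw [← zpow_natCast c 4, ← zpow_add, ← zpow_neg, ← zpow_add]; norm_num [pow_two]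
        _ = 1 := by rw [h2, c4, one_mul, inv_one]
  -- the elements of `R`
  let φ : Cy × E →* G := MonoidHom.noncommCoprod Cy.subtype E.subtype fun a e =>
    (mem_centralizer_iff.1 (hCyle a.2).2 e (hEle e.2)).symm
  have hφ : φ.range = R := by
    refine (MonoidHom.noncommCoprod_range _ _ _).trans ?_
    rw [range_subtype, range_subtype, hprod]
  have hRdec : ∀ x ∈ R, ∃ n : ℤ, ∃ e ∈ E, x = c ^ n * e := by
    intro x hx
    rw [← hφ] at hx
    obtain ⟨⟨⟨a, ha⟩, e⟩, rfl⟩ := hx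
    rw [Cyeq] at ha
    obtain ⟨n, rfl⟩ := mem_zpowers_iff.1 ha
    exact ⟨n, e, e.2, rfl⟩
  have hcm : ∀ (n : ℤ) x, x ∈ R → Commute (c ^ n) x := fun n x hx => (Commute.zpow_right (ccen x hx) n).symm
  have hEcomm : ∀ x ∈ E, ∀ y ∈ E, x * y * x⁻¹ * y⁻¹ = 1 ∨ x * y * x⁻¹ * y⁻¹ = c * c := by
    intro x hx y hy
    refine hz _ (mul_mem (mul_mem (mul_mem hx hy) (inv_mem hx)) (inv_mem hy)) fun z hzm => ?_
    have h : ⁅(⟨x, hx⟩ : E), ⟨y, hy⟩⁆ ∈ center E := hder ▸ commutator_mem_commutator (mem_top _) (mem_top _)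
    exact congrArg Subtype.val (mem_center_iff.1 h ⟨z, hzm⟩)
  have hEsq : ∀ x ∈ E, x * x = 1 ∨ x * x = c * c := by
    intro x hx
    refine hz _ (mul_mem hx hx) fun z hzm => ?_
    have h : (⟨x, hx⟩ : E) ^ 2 ∈ center E := hfr ▸ Cfsg.Agent.Core.pow_mem_frattini hE2 _
    simpa [pow_two] using congrArg Subtype.val (mem_center_iff.1 h ⟨z, hzm⟩)
  have commR : ∀ x ∈ R, ∀ y ∈ R, x * y * x⁻¹ * y⁻¹ = 1 ∨ x * y * x⁻¹ * y⁻¹ = c * c := by
    intro x hx y hy
    obtain ⟨n, e, he, rfl⟩ := hRdec x hx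
    obtain ⟨m, k, hk, rfl⟩ := hRdec y hy
    have e1 : c ^ n * e * (c ^ m * k) * (c ^ n * e)⁻¹ * (c ^ m * k)⁻¹ = e * k * e⁻¹ * k⁻¹ := by
      have a1 := (hcm m e (hEle he)).eq
      have a2 := (hcm n (e * k * e⁻¹) (hEle (mul_mem (mul_mem he hk) (inv_mem he)))).eq
      calc _ = c ^ n * (e * c ^ m) * k * e⁻¹ * c ^ (-n) * k⁻¹ * c ^ (-m) := by group
        _ = c ^ m * (c ^ n * (e * k * e⁻¹)) * c ^ (-n) * k⁻¹ * c ^ (-m) := by rw [← a1]; group
        _ = c ^ m * (e * k * e⁻¹ * k⁻¹) * c ^ (-m) := by rw [a2]; group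
        _ = _ := by
          rw [(hcm m _ (hEle (mul_mem (mul_mem (mul_mem he hk) (inv_mem he)) (inv_mem hk)))).eq]; group
    rw [e1]; exact hEcomm e he k hk
  have sqR : ∀ x ∈ R, x * x ∈ zpowers c := by
    intro x hx
    obtain ⟨n, e, he, rfl⟩ := hRdec x hx
    rw [show c ^ n * e * (c ^ n * e) = c ^ n * c ^ n * (e * e) by
      rw [mul_assoc, ← mul_assoc e, ← (hcm n e (hEle he)).eq]; group]
    rcases hEsq e he with h | h <;> rw [h]
    · exact mul_mem (mul_mem (zpow_mem (mem_zpowers c) n) (zpow_mem (mem_zpowers c) n)) (one_mem _)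
    · exact mul_mem (mul_mem (zpow_mem (mem_zpowers c) n) (zpow_mem (mem_zpowers c) n))
        (mul_mem (mem_zpowers c) (mem_zpowers c))
  -- `t` is the involution of the cyclic part
  have tH : t ∈ H := by rw [hH, mem_centralizer_singleton_iff]
  have tR : t ∈ R := by
    let z : Subgroup H := zpowers ⟨t, tH⟩
    have hzc : z ≤ center H := zpowers_le.2 (mem_center_iff.2 fun g => Subtype.ext (by
      exact mem_centralizer_singleton_iff.1 (hH ▸ g.2 : (g : G) ∈ centralizer ({t} : Set G))))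
    have : z.Normal := ⟨fun a ha g => by rw [mem_center_iff.1 (hzc ha) g, mul_inv_cancel_right]; exact ha⟩
    have hp : IsPGroup 2 z := IsPGroup.of_card (n := 1) (by
      rw [Nat.card_zpowers, pow_one, ← ht]; exact (orderOf_injective H.subtype H.subtype_injective ⟨t, tH⟩).symm)
    rw [hR]
    exact ⟨⟨t, tH⟩, Cfsg.Agent.Core.le_pCore hp (mem_zpowers _), rfl⟩
  have tcc : t = c * c := by
    obtain ⟨n, e, he, hte⟩ := hRdec t tR
    have hec : ∀ y ∈ E, y * e = e * y := by
      intro y hy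
      have e1 : e = c ^ (-n) * t := by rw [hte]; group
      have yt : y * t = t * y := by
        have := RH (hEle hy); rw [hH, mem_centralizer_singleton_iff] at this; exact this
      rw [e1, ← mul_assoc, ← (hcm (-n) y (hEle hy)).eq, mul_assoc, yt, mul_assoc]
    have tC : t ∈ Cy := by
      rw [hte]
      refine mul_mem (Cyeq ▸ zpow_mem (mem_zpowers c) n) ?_
      rcases hz e he hec with h | h <;> rw [h]
      · exact one_mem _
      · exact mul_mem c'.2 c'.2
    rw [Cyeq] at tC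
    obtain ⟨k, hk⟩ := mem_zpowers_iff.1 tC
    have hk4 : t = c ^ (k % 4) := by
      rw [← hk]
      conv_lhs => rw [← Int.mul_ediv_add_emod k 4, zpow_add, zpow_mul, show c ^ (4 : ℤ) = 1 by exact_mod_cast c4,
        one_zpow, one_mul]
    have h0 := Int.emod_nonneg k (show (4 : ℤ) ≠ 0 by norm_num)
    have h4 := Int.emod_lt_of_pos k (show (0 : ℤ) < 4 by norm_num)
    interval_cases hh : k % 4
    · exact absurd (by simpa using hk4) tne
    · rw [hk4, zpow_one] at t2; exact absurd t2 ccne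
    · rw [hk4, zpow_two]
    · exfalso
      rw [hk4] at t2
      apply ccne
      calc c * c = c ^ (3 : ℤ) * c ^ (3 : ℤ) * (c ^ (4 : ℕ))⁻¹ := by
            rw [← zpow_natCast c 4, ← zpow_add, ← zpow_neg, ← zpow_add]; norm_num [pow_two]
        _ = 1 := by rw [t2, c4, one_mul, inv_one]
  -- orders
  have cardR : Nat.card R = 64 := by
    have h1 : Nat.card φ.ker = 2 := by
      rw [← hcz]
      have hE : ∀ x : φ.ker, ((x : Cy × E).2 : G) = ((x : Cy × E).1 : G)⁻¹ := fun x =>
        eq_inv_of_mul_eq_one_right x.2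
      refine Nat.card_congr ⟨fun x => ⟨(x : Cy × E).2, ?_⟩,
        fun y => ⟨(⟨((y : E) : G)⁻¹, ?_⟩, (y : E)), ?_⟩, ?_, ?_⟩
      · refine mem_center_iff.2 fun y => Subtype.ext ?_
        show (y : G) * _ = _ * y
        rw [hE x]
        exact (((Commute.symm (mem_centralizer_iff.1 (hCyle (x : Cy × E).1.2).2 y (hEle y.2))).inv_left).symm).eq
      · have : ((y : E) : G) ∈ Cy ⊓ E := hmeet ▸ ⟨(y : E).2, mem_centralizer_iff.2 fun z hz =>
          congrArg Subtype.val (mem_center_iff.1 y.2 ⟨z, hz⟩)⟩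
        exact inv_mem this.1
      · show ((y : E) : G)⁻¹ * (y : E) = 1
        simp
      · intro x
        refine Subtype.ext (Prod.ext (Subtype.ext ?_) rfl)
        show ((x : Cy × E).2 : G)⁻¹ = _
        rw [hE x, inv_inv]
      · intro y; exact Subtype.ext rfl
    have h2 := φ.ker.card_mul_index
    rw [Subgroup.index_ker, hφ, h1, Nat.card_prod, hCycard, hEcard] at h2
    omega
  have quot : ∃ π : ↥H →* Equiv.Perm (Fin 5), Function.Surjective π ∧ π.ker = R.subgroupOf H := by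
    refine ⟨eH.toMonoidHom.comp (QuotientGroup.mk' _), eH.surjective.comp (QuotientGroup.mk'_surjective _), ?_⟩
    ext x
    rw [MonoidHom.mem_ker, MonoidHom.comp_apply, MulEquiv.coe_toMonoidHom, MulEquiv.map_eq_one_iff,
      QuotientGroup.mk'_apply, QuotientGroup.eq_one_iff, mem_subgroupOf, hR]
    exact ⟨fun h => ⟨x, h, rfl⟩, fun ⟨y, hy, e⟩ => Subtype.ext e ▸ hy⟩
  have cardH : Nat.card H = 7680 := by
    rw [Subgroup.card_eq_card_quotient_mul_card_subgroup (Cfsg.pCore 2 H), Nat.card_congr eH.toEquiv, Nat.card_perm,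
      Nat.card_fin, show Nat.card (Cfsg.pCore 2 H) = Nat.card R from ?_, cardR]
    · rfl
    · rw [hR]; exact (Subgroup.card_map_of_injective H.subtype_injective).symm
  have Rnorm : H ≤ normalizer (R : Set G) := by
    have hn : (Cfsg.pCore 2 H).Normal := Cfsg.Agent.Core.pCore_normal
    intro x hx
    rw [mem_normalizer_iff, hR]
    intro g
    constructor
    · rintro ⟨y, hy, rfl⟩
      exact ⟨⟨x, hx⟩ * y * ⟨x, hx⟩⁻¹, hn.conj_mem y hy _, rfl⟩
    · rintro ⟨y, hy, e⟩
      refine ⟨⟨x, hx⟩⁻¹ * y * ⟨x, hx⟩⁻¹⁻¹, hn.conj_mem y hy _, ?_⟩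
      have e' : (y : G) = x * g * x⁻¹ := e
      show x⁻¹ * (y : G) * x⁻¹⁻¹ = g
      rw [e']; group
  -- the normal subgroup of order 64 of `M`
  let W : Subgroup G := (Cfsg.pCore 2 M).map M.subtype
  have WM : W ≤ M := map_subtype_le _
  have hmemW : ∀ x : G, x ∈ W ↔ ∃ hx : x ∈ M, (⟨x, hx⟩ : M) ∈ Cfsg.pCore 2 M := fun x =>
    ⟨fun ⟨y, hy, e⟩ => e ▸ ⟨y.2, hy⟩, fun ⟨hx, h⟩ => ⟨⟨x, hx⟩, h, rfl⟩⟩
  let j : ↥W ≃* Multiplicative (ZMod 4 × ZMod 4 × ZMod 4) :=
    ((Cfsg.pCore 2 M).equivMapOfInjective M.subtype M.subtype_injective).symm.trans eOM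
  have cardW : Nat.card W = 64 := by
    rw [Nat.card_congr j.toEquiv, Nat.card_congr Multiplicative.toAdd]; simp
  have Wcomm : ∀ x ∈ W, ∀ y ∈ W, x * y = y * x := fun x hx y hy => by
    have : (⟨x, hx⟩ : W) * ⟨y, hy⟩ = ⟨y, hy⟩ * ⟨x, hx⟩ := j.injective (by rw [map_mul, map_mul, mul_comm])
    exact congrArg Subtype.val this
  have W4 : ∀ x ∈ W, x ^ 4 = 1 := fun x hx => by
    have h4 : ∀ a : Multiplicative (ZMod 4 × ZMod 4 × ZMod 4), a ^ 4 = 1 := fun a => by
      have := four_facts.1 (Multiplicative.toAdd a)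
      rw [pow_succ, pow_succ, pow_two]; exact congrArg Multiplicative.ofAdd this
    have : (⟨x, hx⟩ : W) ^ 4 = 1 := j.injective (by rw [map_pow, map_one]; exact h4 _)
    exact congrArg Subtype.val this
  have cardM : Nat.card M = 10752 := by
    rw [Subgroup.card_eq_card_quotient_mul_card_subgroup (Cfsg.pCore 2 M), Nat.card_congr eM.toEquiv, card_GL32,
      show Nat.card (Cfsg.pCore 2 M) = 64 from ?_]
    rw [Nat.card_congr eOM.toEquiv, Nat.card_congr Multiplicative.toAdd]; simp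
  have V2 : ∀ v ∈ V, v * v = 1 := fun v hv => by rw [← pow_two]; exact hVexp v hv
  have VM : V ≤ M := hM ▸ le_normalizer
  have VW : V ≤ W := by
    have hn : (V.subgroupOf M).Normal := ⟨fun a ha g => by
      rw [mem_subgroupOf] at ha ⊢
      have hg : (g : G) ∈ normalizer (V : Set G) := hM ▸ g.2
      exact (mem_normalizer_iff.1 hg _).1 ha⟩
    have hp : IsPGroup 2 (V.subgroupOf M) := (IsPGroup.of_card (n := 3) (by rw [hVcard]; norm_num) :
      IsPGroup 2 V).of_equiv (subgroupOfEquivOfLe VM).symm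
    exact fun x hx => (hmemW x).2 ⟨VM hx, Cfsg.Agent.Core.le_pCore hp hx⟩
  have Viff : ∀ x, x ∈ V ↔ x ∈ W ∧ x * x = 1 := by
    have hsub : (V : Set G) ⊆ {x | x ∈ W ∧ x * x = 1} := fun x hx => ⟨VW hx, V2 x hx⟩
    have hcard : Set.ncard {x | x ∈ W ∧ x * x = 1} = 8 := by
      rw [← Nat.card_coe_set_eq, ← four_facts.2.2]
      refine Nat.card_congr ⟨fun x => ⟨Multiplicative.toAdd (j ⟨x.1, x.2.1⟩), ?_⟩,
        fun a => ⟨(j.symm (Multiplicative.ofAdd a.1)).1, (j.symm (Multiplicative.ofAdd a.1)).2, ?_⟩, ?_, ?_⟩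
      · rw [← toAdd_mul, ← map_mul, show (⟨x.1, x.2.1⟩ : W) * ⟨x.1, x.2.1⟩ = 1 from Subtype.ext x.2.2, map_one]
        rfl
      · have e : j.symm (Multiplicative.ofAdd a.1) * j.symm (Multiplicative.ofAdd a.1) = 1 := by
          rw [← map_mul, ← ofAdd_add, a.2, ofAdd_zero, map_one]
        exact congrArg Subtype.val e
      · intro x; simp
      · intro a; simp
    have heq : (V : Set G) = {x | x ∈ W ∧ x * x = 1} := Set.eq_of_subset_of_ncard_le hsub
      (by rw [hcard, ← hVcard]; exact le_of_eq (Nat.card_coe_set_eq (V : Set G))) (Set.toFinite _)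
    exact fun x => Set.ext_iff.1 heq x
  have Vsq : ∀ v ∈ V, ∃ w ∈ W, w * w = v := by
    intro v hv
    obtain ⟨hvW, hv2⟩ := (Viff v).1 hv
    have h0 : Multiplicative.toAdd (j ⟨v, hvW⟩) + Multiplicative.toAdd (j ⟨v, hvW⟩) = 0 := by
      rw [← toAdd_mul, ← map_mul, show (⟨v, hvW⟩ : W) * ⟨v, hvW⟩ = 1 from Subtype.ext hv2, map_one]; rfl
    obtain ⟨b, hb⟩ := four_facts.2.1 _ h0
    refine ⟨(j.symm (Multiplicative.ofAdd b)).1, (j.symm (Multiplicative.ofAdd b)).2, ?_⟩
    have : j.symm (Multiplicative.ofAdd b) * j.symm (Multiplicative.ofAdd b) = ⟨v, hvW⟩ := by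
      rw [← map_mul, ← ofAdd_add, hb]; simp
    exact congrArg Subtype.val this
  have c4' : ∀ x ∈ zpowers c, x = 1 ∨ x = c ∨ x = c * c ∨ x = c * c * c := by
    intro x hx
    obtain ⟨n, hn⟩ := mem_zpowers_iff.1 hx
    have hn4 : x = c ^ (n % 4) := by
      rw [← hn]
      conv_lhs => rw [← Int.mul_ediv_add_emod n 4, zpow_add, zpow_mul, show c ^ (4 : ℤ) = 1 by exact_mod_cast c4,
        one_zpow, one_mul]
    have h0 := Int.emod_nonneg n (show (4 : ℤ) ≠ 0 by norm_num)
    have h4 := Int.emod_lt_of_pos n (show (0 : ℤ) < 4 by norm_num)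
    interval_cases hh : n % 4
    · exact Or.inl (by simpa using hn4)
    · exact Or.inr (Or.inl (by rw [hn4, zpow_one]))
    · exact Or.inr (Or.inr (Or.inl (by rw [hn4, zpow_two])))
    · exact Or.inr (Or.inr (Or.inr (by rw [hn4, show (3 : ℤ) = ((3 : ℕ) : ℤ) from rfl, zpow_natCast, pow_succ, pow_two])))
  have hcen : ∀ x ∈ R, (∀ y ∈ R, y * x = x * y) → x ∈ zpowers c := by
    intro x hx hcx
    obtain ⟨n, e, he, rfl⟩ := hRdec x hx
    refine mul_mem (zpow_mem (mem_zpowers c) n) ?_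
    rcases hz e he (fun y hy => by
      have h1 := hcx y (hEle hy)
      rw [← mul_assoc, ← (hcm n y (hEle hy)).eq, mul_assoc, mul_assoc] at h1
      exact mul_left_cancel h1) with h | h <;> rw [h]
    · exact one_mem _
    · exact mul_mem (mem_zpowers c) (mem_zpowers c)
  have abel : ∀ A : Subgroup G, A ≤ R → (∀ x ∈ A, ∀ y ∈ A, x * y = y * x) → Nat.card A ≠ 32 := by
    intro A hA hAc hA32
    obtain ⟨x, hxR, hxA⟩ := SetLike.exists_of_lt (lt_of_le_of_ne hA fun e => by rw [e, cardR] at hA32; norm_num at hA32)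
    let KS : Set G := {a | a ∈ A ∧ x * a = a * x}
    have hidx : (A.subgroupOf R).index = 2 := by
      have := (A.subgroupOf R).card_mul_index
      rw [Nat.card_congr (subgroupOfEquivOfLe hA).toEquiv, hA32, cardR] at this
      omega
    have hKz : ∀ a ∈ KS, a ∈ zpowers c := by
      rintro a ⟨haA, hax⟩
      refine hcen a (hA haA) fun y hy => ?_
      by_cases hyA : y ∈ A
      · exact hAc y hyA a haA
      · have h := (mul_mem_iff_of_index_two hidx (a := (⟨x, hxR⟩ : R)⁻¹) (b := ⟨y, hy⟩)).2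
          ⟨fun h => absurd (by simpa [mem_subgroupOf] using h) hxA, fun h => absurd (by simpa [mem_subgroupOf] using h) hyA⟩
        rw [mem_subgroupOf] at h
        have hb : x⁻¹ * y ∈ A := h
        calc y * a = x * (x⁻¹ * y * a) := by group
          _ = x * a * (x⁻¹ * y) := by rw [hAc _ hb a haA]; group
          _ = a * y := by rw [hax]; group
    have hKS : KS.ncard ≤ 4 := by
      refine le_trans (Set.ncard_le_ncard (t := (zpowers c : Set G)) hKz (Set.toFinite _)) (le_of_eq ?_)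
      rw [← Nat.card_coe_set_eq]
      show Nat.card (zpowers c) = 4
      rw [Nat.card_zpowers, oc]
    have hsplit : (A : Set G).ncard ≤ KS.ncard + KS.ncard := by
      by_cases hall : ∀ a ∈ A, x * a = a * x
      · exact le_trans (Set.ncard_le_ncard (t := KS) (fun a ha => ⟨ha, hall a ha⟩) (Set.toFinite _)) (Nat.le_add_right _ _)
      · push Not at hall
        obtain ⟨a₀, ha₀, hne⟩ := hall
        have e0 : x * a₀ * x⁻¹ * a₀⁻¹ = c * c := (commR x hxR a₀ (hA ha₀)).resolve_left fun e => hne (by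
          calc x * a₀ = (x * a₀ * x⁻¹ * a₀⁻¹) * (a₀ * x) := by group
            _ = a₀ * x := by rw [e, one_mul])
        have hsub : (A : Set G) ⊆ KS ∪ (fun a => a₀ * a) '' KS := by
          intro a ha
          by_cases hax : x * a = a * x
          · exact Or.inl ⟨ha, hax⟩
          · refine Or.inr ⟨a₀⁻¹ * a, ⟨mul_mem (inv_mem ha₀) ha, ?_⟩, by group⟩
            have e1 : x * a * x⁻¹ * a⁻¹ = c * c := (commR x hxR a (hA ha)).resolve_left fun e => hax (by
              calc x * a = (x * a * x⁻¹ * a⁻¹) * (a * x) := by group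
                _ = a * x := by rw [e, one_mul])
            have f0 : x * a₀ * x⁻¹ = c * c * a₀ := mul_inv_eq_iff_eq_mul.1 e0
            have f1 : x * a * x⁻¹ = c * c * a := mul_inv_eq_iff_eq_mul.1 e1
            calc x * (a₀⁻¹ * a) = (x * a₀ * x⁻¹)⁻¹ * (x * a * x⁻¹) * x := by group
              _ = _ := by rw [f0, f1]; group
        refine le_trans (Set.ncard_le_ncard hsub (Set.toFinite _)) ((Set.ncard_union_le _ _).trans ?_)
        exact Nat.add_le_add_left (Set.ncard_image_le (Set.toFinite _)) _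
    have hA' : (A : Set G).ncard = 32 := by rw [← Nat.card_coe_set_eq]; exact hA32
    omega
  have tV : t ∈ V := by
    by_contra htV
    let A : Subgroup G := V ⊔ zpowers c
    have hcV : ∀ v ∈ V, ∀ a ∈ zpowers c, a * v = v * a := fun v hv a ha => by
      obtain ⟨n, rfl⟩ := mem_zpowers_iff.1 ha
      exact (hcm n v (hVR hv)).eq
    let ψ : V × zpowers c →* G := MonoidHom.noncommCoprod V.subtype (zpowers c).subtype fun v a =>
      (hcV v v.2 a a.2).symm
    have hψ : Function.Injective ψ := by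
      rw [← MonoidHom.ker_eq_bot_iff, eq_bot_iff]
      rintro ⟨v, a⟩ h
      have e : (v : G) * (a : G) = 1 := h
      have e' : (a : G) = (v : G) := by
        rw [eq_inv_of_mul_eq_one_right e, inv_eq_of_mul_eq_one_right (V2 v v.2)]
      have hv1 : (v : G) = 1 := by
        rcases c4' a a.2 with k | k | k | k
        · rw [← e', k]
        · exact absurd (show t ∈ V by
            have := V2 v v.2; rw [← e', k] at this; exact absurd this ccne) htV
        · exact absurd (show t ∈ V by rw [tcc, ← k, e']; exact v.2) htV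
        · exact absurd (show t ∈ V by
            have := V2 v v.2; rw [← e', k] at this
            refine absurd ?_ ccne
            calc c * c = c * c * c * (c * c * c) * (c ^ 4)⁻¹ := by
                  simp only [pow_succ, pow_zero, one_mul]; group; first | exact (zpow_two c).symm | exact (pow_two c).symm
              _ = 1 := by rw [this, c4, one_mul, inv_one]) htV
      exact mem_bot.2 (Prod.ext (Subtype.ext hv1) (Subtype.ext (by rw [e', hv1]; rfl)))
    refine abel ψ.range ?_ ?_ ?_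
    · rintro _ ⟨⟨v, a⟩, rfl⟩
      exact mul_mem (hVR v.2) (by
        obtain ⟨n, hn⟩ := mem_zpowers_iff.1 a.2
        show (a : G) ∈ R
        rw [← hn]; exact zpow_mem cR n)
    · rintro _ ⟨u, rfl⟩ _ ⟨w, rfl⟩
      rw [← map_mul, ← map_mul]
      congr 1
      refine Prod.ext (Subtype.ext ?_) (Subtype.ext ?_)
      · have := hVcomm.1.comm u.1 w.1
        exact congrArg Subtype.val this
      · obtain ⟨n, hn⟩ := mem_zpowers_iff.1 u.2.2
        obtain ⟨m, hm⟩ := mem_zpowers_iff.1 w.2.2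
        show (u.2 : G) * (w.2 : G) = (w.2 : G) * (u.2 : G)
        rw [← hn, ← hm, ← zpow_add, ← zpow_add, add_comm]
    · rw [← Nat.card_congr (MonoidHom.ofInjective hψ).toEquiv, Nat.card_prod, hVcard, Nat.card_zpowers, oc]
  have RM : R ≤ M := by
    intro x hx
    rw [hM, mem_normalizer_iff]
    intro g
    have key : ∀ y ∈ R, ∀ v ∈ V, y * v * y⁻¹ ∈ V := by
      intro y hy v hv
      rw [show y * v * y⁻¹ = y * v * y⁻¹ * v⁻¹ * v by group]
      rcases commR y hy v (hVR hv) with e | e <;> rw [e]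
      · rw [one_mul]; exact hv
      · rw [← tcc]; exact mul_mem tV hv
    exact ⟨fun hg => key x hx g hg, fun hg => by
      have := key x⁻¹ (inv_mem hx) _ hg
      rwa [show x⁻¹ * (x * g * x⁻¹) * x⁻¹⁻¹ = g by group] at this⟩
  have Wnorm : M ≤ normalizer (W : Set G) := by
    have hn : (Cfsg.pCore 2 M).Normal := Cfsg.Agent.Core.pCore_normal
    intro x hx
    rw [mem_normalizer_iff]
    intro g
    constructor
    · intro hg
      obtain ⟨hg', h⟩ := (hmemW g).1 hg
      exact (hmemW _).2 ⟨_, hn.conj_mem _ h ⟨x, hx⟩⟩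
    · intro hg
      obtain ⟨hg', h⟩ := (hmemW _).1 hg
      have h2 := hn.conj_mem _ h ⟨x, hx⟩⁻¹
      refine (hmemW g).2 ⟨?_, ?_⟩
      · have := mul_mem (mul_mem (inv_mem hx) hg') hx
        rwa [show x⁻¹ * (x * g * x⁻¹) * x = g by group] at this
      · convert h2 using 1
        exact Subtype.ext (show g = x⁻¹ * (x * g * x⁻¹) * x⁻¹⁻¹ by group)
  have fix : ∀ x ∈ M, (∀ v ∈ V, x * v * x⁻¹ = v) ↔ x ∈ W := by
    let K : Subgroup M :=
      { carrier := {x | ∀ v ∈ V, (x : G) * v * (x : G)⁻¹ = v}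
        one_mem' := fun v _ => by simp
        mul_mem' := fun {a b} ha hb v hv => by
          show (a : G) * (b : G) * v * ((a : G) * (b : G))⁻¹ = v
          calc _ = (a : G) * ((b : G) * v * (b : G)⁻¹) * (a : G)⁻¹ := by group
            _ = v := by rw [hb v hv, ha v hv]
        inv_mem' := fun {a} ha v hv => by
          show (a : G)⁻¹ * v * (a : G)⁻¹⁻¹ = v
          conv_lhs => rw [← ha v hv]
          group }
    have hKn : K.Normal := ⟨fun a ha g v hv => by
      have hg : (g : G)⁻¹ * v * (g : G) ∈ V := by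
        have hg' : (g : G)⁻¹ ∈ normalizer (V : Set G) := inv_mem (hM ▸ g.2)
        have := (mem_normalizer_iff.1 hg' v).1 hv
        rwa [inv_inv] at this
      show (g : G) * (a : G) * (g : G)⁻¹ * v * ((g : G) * (a : G) * (g : G)⁻¹)⁻¹ = v
      calc _ = (g : G) * ((a : G) * ((g : G)⁻¹ * v * (g : G)) * (a : G)⁻¹) * (g : G)⁻¹ := by group
        _ = v := by rw [ha _ hg]; group⟩
    have hle : Cfsg.pCore 2 M ≤ K := fun a ha v hv => by
      rw [Wcomm (a : G) ((hmemW _).2 ⟨a.2, ha⟩) v (VW hv), mul_inv_cancel_right]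
    have : IsSimpleGroup (M ⧸ Cfsg.pCore 2 M) :=
      haveI := simple_GL32
      MulEquiv.isSimpleGroup eM
    have hmap := hKn.map (QuotientGroup.mk' (Cfsg.pCore 2 M)) (QuotientGroup.mk'_surjective _)
    rcases hmap.eq_bot_or_eq_top with e | e
    · intro x hx
      refine ⟨fun h => ?_, fun h v hv => by rw [Wcomm x h v (VW hv), mul_inv_cancel_right]⟩
      have : QuotientGroup.mk' (Cfsg.pCore 2 M) ⟨x, hx⟩ ∈ K.map (QuotientGroup.mk' (Cfsg.pCore 2 M)) :=
        ⟨(⟨x, hx⟩ : M), (fun v hv => h v hv), rfl⟩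
      rw [e, mem_bot, QuotientGroup.mk'_apply, QuotientGroup.eq_one_iff] at this
      exact (hmemW x).2 ⟨hx, this⟩
    · exfalso
      have hK : K = ⊤ := by
        rw [eq_top_iff]
        intro x _
        have : QuotientGroup.mk' (Cfsg.pCore 2 M) x ∈ K.map (QuotientGroup.mk' (Cfsg.pCore 2 M)) := e ▸ mem_top _
        obtain ⟨y, hy, hxy⟩ := this
        have h2 : y⁻¹ * x ∈ Cfsg.pCore 2 M := QuotientGroup.eq.1 hxy
        have := mul_mem hy (hle h2)
        rwa [mul_inv_cancel_left] at this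
      have hMH : M ≤ H := fun x hx => by
        have hxK : (⟨x, hx⟩ : M) ∈ K := hK ▸ mem_top _
        have := hxK t tV
        rw [hH, mem_centralizer_singleton_iff]
        exact mul_inv_eq_iff_eq_mul.1 this
      have := Subgroup.card_dvd_of_le hMH
      rw [cardH, cardM] at this
      norm_num at this
  have cW : c ∈ W := (fix c (RM cR)).1 fun v hv => by rw [← ccen v (hVR hv), mul_inv_cancel_right]
  have RW : ∀ x, x ∈ R → x ∈ W → ∃ v ∈ V, ∃ n : ℕ, x = v * c ^ n := by
    intro x hxR hxW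
    have h2 : x * x * (x * x) = 1 := by
      have := W4 x hxW
      rw [show (4 : ℕ) = 2 + 2 from rfl, pow_add, pow_two] at this
      exact this
    rcases c4' _ (sqR x hxR) with k | k | k | k
    · exact ⟨x, (Viff x).2 ⟨hxW, k⟩, 0, by simp⟩
    · rw [k] at h2; exact absurd h2 ccne
    · refine ⟨x * c⁻¹, (Viff _).2 ⟨mul_mem hxW (inv_mem cW), ?_⟩, 1, by simp⟩
      have hxc : Commute x c := ccen x hxR
      calc x * c⁻¹ * (x * c⁻¹) = x * (c⁻¹ * x) * c⁻¹ := by group
        _ = x * x * (c⁻¹ * c⁻¹) := by rw [← hxc.inv_right.eq]; group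
        _ = 1 := by rw [k]; group
    · exfalso
      rw [k] at h2
      apply ccne
      calc c * c = c * c * c * (c * c * c) * (c ^ 4)⁻¹ := by
              simp only [pow_succ, pow_zero, one_mul]; group; first | exact (zpow_two c).symm | exact (pow_two c).symm
        _ = 1 := by rw [h2, c4, one_mul, inv_one]
  exact ⟨W, c, {
    tne := tne, t2 := t2, hH := hH, cR := cR, cW := cW, cc := tcc.symm, c_cen := ccen, Z_R := hcen, R_le := RH,
    R_norm := Rnorm, card_R := cardR, card_H := cardH, quot := quot, sqR := sqR,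
    commR := fun x hx y hy => by rw [tcc]; exact commR x hx y hy,
    hM := hM, R_le_M := RM, card_M := cardM, W_le := WM, W_norm := Wnorm, card_W := cardW,
    W_comm := Wcomm, W4 := W4, tV := tV, VR := hVR, V_iff := Viff, card_V := hVcard, V_sq := Vsq, fix_iff := fix, RW := RW }⟩

end Cfsg.Agent.HSRecog.MSide
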