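import Cfsg.Agent.HSRecog.MSide.Lift

/-!
The normal forms exhaust the second local subgroup and are unique.
-/

set_option autoImplicit false
set_option maxRecDepth 100000
set_option linter.all false

namespace Cfsg.Agent.HSRecog.MSide

open Subgroup Cfsg.Agent.HSRecog Cfsg.Agent.HSRecog.Machine
open Cfsg.Agent.HSRecog.MRel (nfW)

/-- The part of a state outside the abelian subgroup. -/
abbrev Tl : Type := Fin 7 × Fin 3 × Option (Fin 7)

/-- The effect of a tail on the abelian subgroup. -/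
def tlV (τ : Tl) (v : V4) : V4 :=
  dP τ.1 (fP τ.2.1 (match τ.2.2 with
    | none => v
    | some q => rV (dP q v)))

/-- The action of a tail on the subgroup of order eight. -/
def act (τ : Tl) : T3 := img (tlV τ)

theorem tl_lin : ∀ (τ : Tl) (a : U), tlV τ (dbl a) = dbl (comb (act τ) a) := by decide +kernel

theorem act_inj : Function.Injective act := by decide +kernel

theorem act_surj : ∀ p q u : U, Indep (p, q, u) → ∃ τ : Tl, act τ = (p, q, u) := by decide +kernel

/-- The element of a word. -/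
def val {G : Type*} [Group G] (c d f r : G) (u : List (Fin 4)) : G := (u.map (lt c d f r)).prod

theorem val_append {G : Type*} [Group G] (c d f r : G) (u v : List (Fin 4)) :
    val c d f r (u ++ v) = val c d f r u * val c d f r v := by
  rw [val, val, val, List.map_append, List.prod_append]

variable {G : Type*} [Group G] [Finite G] {t c d f r : G} {H R M W V : Subgroup G} {ε b : Fin 4}

theorem acts_unique (g : Gens t H R M W V c d f) {x : G} {s u : T3} (h1 : Acts c d x s) (h2 : Acts c d x u) :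
    s = u := by
  have key : ∀ a, comb s a = comb u a := fun a => g.nu_inj (by rw [← h1 a, ← h2 a])
  have e : ∀ s : T3, s = (comb s (1, 0, 0), comb s (0, 1, 0), comb s (0, 0, 1)) := fun s => by
    simp [comb]
  rw [e s, e u, key, key, key]

theorem ev_conj (p : Pre c d f r ε b) (s : St) (v : V4) :
    ev c d f r s * nfW c d v * (ev c d f r s)⁻¹ = nfW c d (tlV s.2 v) := by
  obtain ⟨w, i, j, q⟩ := s
  have hd : ∀ (n : ℕ) v, d ^ n * nfW c d v * (d ^ n)⁻¹ = nfW c d (dP n v) := p.conj_dpow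
  have hf : ∀ (n : ℕ) v, f ^ n * nfW c d v * (f ^ n)⁻¹ = nfW c d (fP n v) := fun n v => by
    rw [p.fpow_nf, mul_inv_cancel_right]
  have hw : ∀ u, nfW c d w * nfW c d u * (nfW c d w)⁻¹ = nfW c d u := fun u => by
    rw [p.nf_mul, add_comm, ← p.nf_mul, mul_inv_cancel_right]
  rcases q with _ | q <;> simp only [ev, tlV]
  · rw [show nfW c d w * d ^ (i : ℕ) * f ^ (j : ℕ) * 1 * nfW c d v * (nfW c d w * d ^ (i : ℕ) * f ^ (j : ℕ) * 1)⁻¹ =
      nfW c d w * (d ^ (i : ℕ) * (f ^ (j : ℕ) * nfW c d v * (f ^ (j : ℕ))⁻¹) * (d ^ (i : ℕ))⁻¹) *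
        (nfW c d w)⁻¹ by group, hf, hd, hw]
  · rw [show nfW c d w * d ^ (i : ℕ) * f ^ (j : ℕ) * (r * d ^ (q : ℕ)) * nfW c d v *
        (nfW c d w * d ^ (i : ℕ) * f ^ (j : ℕ) * (r * d ^ (q : ℕ)))⁻¹ =
      nfW c d w * (d ^ (i : ℕ) * (f ^ (j : ℕ) * (r * (d ^ (q : ℕ) * nfW c d v * (d ^ (q : ℕ))⁻¹) * r⁻¹) *
        (f ^ (j : ℕ))⁻¹) * (d ^ (i : ℕ))⁻¹) * (nfW c d w)⁻¹ by group, hd, p.conj_r, hf, hd, hw]

theorem acts_ev (p : Pre c d f r ε b) (s : St) : Acts c d (ev c d f r s) (act s.2) := fun a => by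
  rw [nu, ev_conj p, tl_lin]; rfl

theorem ev_mem (g : Gens t H R M W V c d f) (rM : r ∈ M) (s : St) : ev c d f r s ∈ M := by
  obtain ⟨v, i, j, q⟩ := s
  refine mul_mem (mul_mem (mul_mem (g.W_le (g.nf_mem _)) (pow_mem g.dM _)) (pow_mem g.fM _)) ?_
  rcases q with _ | q
  · exact one_mem _
  · exact mul_mem rM (pow_mem g.dM _)

theorem ev_add (p : Pre c d f r ε b) (z : V4) (s : St) :
    nfW c d z * ev c d f r s = ev c d f r (z + s.1, s.2) := by
  simp only [ev, ← p.nf_mul, mul_assoc]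

/-- Every element of `M` is given by a state, and so is every left translate of the abelian subgroup. -/
theorem exists_shift (g : Gens t H R M W V c d f) (p : Pre c d f r ε b) (rM : r ∈ M) {x : G} (hx : x ∈ M)
    {s : St} (hs : Acts c d x (act s.2)) : ∃ z, x = nfW c d z * ev c d f r s := by
  obtain ⟨z, hz⟩ := g.nf_surj _ (g.acts_same hx (ev_mem g rM s) hs (acts_ev p s))
  refine ⟨tlV s.2 z, ?_⟩
  rw [← ev_conj p, hz]; group

theorem ev_surj (g : Gens t H R M W V c d f) (p : Pre c d f r ε b) (rM : r ∈ M) {x : G} (hx : x ∈ M) :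
    ∃ s, ev c d f r s = x := by
  obtain ⟨⟨a, q, u⟩, hi, ha⟩ := g.acts_exists hx
  obtain ⟨τ, hτ⟩ := act_surj a q u hi
  obtain ⟨z, hz⟩ := exists_shift g p rM hx (s := (0, τ)) (hτ.symm ▸ ha)
  exact ⟨(z + 0, τ), by rw [hz, ev_add p]⟩

theorem ev_inj (g : Gens t H R M W V c d f) (p : Pre c d f r ε b) : Function.Injective (ev c d f r) := by
  intro s u e
  have e2 : s.2 = u.2 := act_inj (acts_unique g (acts_ev p s) (e ▸ acts_ev p u))
  obtain ⟨v, τ⟩ := s
  obtain ⟨w, τ'⟩ := u
  obtain rfl : τ = τ' := e2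
  simp only [ev] at e
  exact Prod.ext (g.nf_inj (mul_right_cancel (mul_right_cancel (mul_right_cancel e)))) rfl

theorem val_ev (p : Pre c d f r ε b) (u : List (Fin 4)) : val c d f r u = ev c d f r (run ε b start u) :=
  p.word u

theorem val_iff (g : Gens t H R M W V c d f) (p : Pre c d f r ε b) (u v : List (Fin 4)) :
    val c d f r u = val c d f r v ↔ run ε b start u = run ε b start v :=
  ⟨fun h => ev_inj g p (by rw [← val_ev p, ← val_ev p, h]), fun h => by rw [val_ev p, val_ev p, h]⟩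

end Cfsg.Agent.HSRecog.MSide
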